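import Cfsg.Agent.Lib.Orders.EPPO

/-!
Owner: helper3. Almost simple groups over `A₅` and `A₆` all of whose element orders are prime powers:
Sylow normalisers act semiregularly, which bounds the index of the socle.
-/

set_option autoImplicit false

namespace CfsgLib.Recog.SmallOrders

open Subgroup

universe u

variable {X : Type u} [Group X] [Finite X]

/-- A `q`-group normalising a `p`-group acts semiregularly on its non-identity elements. -/
theorem card_dvd_sub_one (hpp : ∀ g : X, g ≠ 1 → IsPrimePow (orderOf g)) {P H : Subgroup X} {p q : ℕ}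
    [Fact p.Prime] [Fact q.Prime] (hpq : p ≠ q) (hP : IsPGroup p P) (hH : IsPGroup q H)
    (hHN : H ≤ normalizer (P : Set X)) : Nat.card H ∣ Nat.card P - 1 := by
  let _ : MulAction H {x : P // x ≠ 1} :=
    { smul := fun h x => ⟨⟨(h : X) * (x.1 : X) * (h : X)⁻¹, (mem_normalizer_iff.1 (hHN h.2) _).1 x.1.2⟩,
        fun e => x.2 (Subtype.ext (by
          have e' : (h : X) * (x.1 : X) * (h : X)⁻¹ = 1 := congrArg Subtype.val e
          exact conj_eq_one_iff.1 e'))⟩
      one_smul := fun x => Subtype.ext (Subtype.ext (by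
        show ((1 : H) : X) * _ * _ = _
        simp))
      mul_smul := fun a b x => Subtype.ext (Subtype.ext (by
        show ((a * b : H) : X) * _ * _ = (a : X) * ((b : X) * _ * (b : X)⁻¹) * (a : X)⁻¹
        simp [mul_assoc])) }
  have hst : ∀ x : {x : P // x ≠ 1}, MulAction.stabilizer H x = ⊥ := by
    intro x
    rw [eq_bot_iff]
    intro h hh
    rw [mem_bot]
    by_contra hne
    have e : (h : X) * (x.1 : X) * (h : X)⁻¹ = (x.1 : X) :=
      congrArg (fun y : {x : P // x ≠ 1} => (y.1 : X)) (MulAction.mem_stabilizer_iff.1 hh)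
    have hc : Commute (h : X) (x.1 : X) := mul_inv_eq_iff_eq_mul.1 e
    obtain ⟨i, hi⟩ := hH h
    obtain ⟨k, hk⟩ := hP x.1
    obtain ⟨j, -, hj⟩ := (Nat.dvd_prime_pow Fact.out).1 (orderOf_dvd_of_pow_eq_one hk)
    obtain ⟨m, rfl⟩ : ∃ m, j = m + 1 := Nat.exists_eq_succ_of_ne_zero fun h0 =>
      x.2 (orderOf_eq_one_iff.1 (by rw [hj, h0, pow_zero]))
    have hb : orderOf ((x.1 : X) ^ p ^ m) = p := by
      rw [orderOf_pow' _ (pow_ne_zero _ (Fact.out : p.Prime).ne_zero), Subgroup.orderOf_coe, hj,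
        Nat.gcd_eq_right (pow_dvd_pow p m.le_succ), pow_succ, Nat.mul_div_cancel_left _ (pow_pos (Fact.out : p.Prime).pos m)]
    exact Orders.eppo_commute hpp (Fact.out : q.Prime) (Fact.out : p.Prime) hpq.symm
      (fun h1 => hne (Subtype.ext h1)) (by simpa using congrArg Subtype.val hi) hb (hc.pow_right _)
  classical
  haveI : Fintype (Quotient (MulAction.orbitRel H {x : P // x ≠ 1})) := Fintype.ofFinite _
  haveI := Fintype.ofFinite P
  have hc := Nat.card_congr (MulAction.selfEquivSigmaOrbitsQuotientStabilizer H {x : P // x ≠ 1})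
  rw [Nat.card_sigma, Finset.sum_congr rfl (g := fun _ => Nat.card H) (fun ω _ => by
    change (MulAction.stabilizer H _).index = _
    rw [hst, index_bot]), Finset.sum_const, smul_eq_mul] at hc
  have hP1 : Nat.card {x : P // x ≠ 1} = Nat.card P - 1 := by
    rw [Nat.card_eq_fintype_card, Nat.card_eq_fintype_card]
    simp [Fintype.card_subtype_compl]
  exact ⟨_, (hP1 ▸ hc).trans (mul_comm _ _)⟩

/-- Prime powers prime to `p` dividing the normaliser of a `p`-group divide its order less one. -/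
theorem prime_pow_dvd_sub_one (hpp : ∀ g : X, g ≠ 1 → IsPrimePow (orderOf g)) {P : Subgroup X} {p q n : ℕ}
    [Fact p.Prime] (hP : IsPGroup p P) (hq : q.Prime) (hpq : p ≠ q)
    (hd : q ^ n ∣ Nat.card (normalizer (P : Set X))) : q ^ n ∣ Nat.card P - 1 := by
  haveI := Fact.mk hq
  obtain ⟨H, hH⟩ := Sylow.exists_subgroup_card_pow_prime q hd
  have := card_dvd_sub_one hpp hpq hP (H := H.map (normalizer (P : Set X)).subtype)
    ((IsPGroup.of_card hH).map _) (map_subtype_le H)
  rwa [card_map_of_injective (subtype_injective _), hH] at this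

/-- Frattini argument for a Sylow subgroup of a normal subgroup. -/
theorem frattini_card (M : Subgroup X) [M.Normal] {p : ℕ} [Fact p.Prime] {P : Subgroup X}
    (hPM : P ≤ M) (hP : IsPGroup p P) (hidx : ¬ p ∣ P.relIndex M) :
    Nat.card (normalizer (P : Set X)) = M.index * Nat.card ↥(normalizer (P : Set X) ⊓ M) ∧
      Nat.card ↥(normalizer (P : Set X) ⊓ M) * Nat.card (Sylow p M) = Nat.card M ∧
      Nat.card P ∣ Nat.card ↥(normalizer (P : Set X) ⊓ M) := by
  set N := normalizer (P : Set X) with hNdef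
  have hP' : IsPGroup p (P.subgroupOf M) := hP.comap_subtype
  set S : Sylow p M := hP'.toSylow hidx with hS
  have hSc : (S : Subgroup M) = P.subgroupOf M := rfl
  have hsup : N ⊔ M = ⊤ := by
    have := Sylow.normalizer_sup_eq_top S
    have e : (S : Subgroup M).map M.subtype = P := by
      rw [hSc, subgroupOf_map_subtype, inf_eq_left.2 hPM]
    rwa [e] at this
  refine ⟨?_, ?_, card_dvd_of_le (le_inf le_normalizer hPM)⟩
  · have h1 : M.relIndex N = M.index := by
      rw [← relIndex_sup_right (H := N) (K := M), hsup, relIndex_top_right]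
    have h2 := relIndex_mul_relIndex (H := ⊥) (K := M ⊓ N) (L := N) bot_le inf_le_right
    rw [relIndex_bot_left, relIndex_bot_left, inf_relIndex_right, h1] at h2
    rw [← h2, inf_comm N M, mul_comm]
  · rw [Sylow.card_eq_index_normalizer S]
    have e : normalizer ((S : Subgroup M) : Set M) = N.subgroupOf M := by
      rw [hSc]
      exact (subgroupOf_normalizer_eq hPM).symm
    have hc : Nat.card ↥(N ⊓ M) = Nat.card (N.subgroupOf M) := by
      rw [← inf_subgroupOf_right N M]
      exact (Nat.card_congr (subgroupOfEquivOfLe inf_le_right).toEquiv).symm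
    rw [hc, ← e]
    exact card_mul_index _

/-- Burnside: a simple group has no abelian Sylow subgroup which is its own normaliser. -/
theorem not_selfNormalizing_abelian {M : Type*} [Group M] [Finite M] [IsSimpleGroup M] {p : ℕ} [Fact p.Prime]
    (T : Sylow p M) (hT1 : (T : Subgroup M) ≠ ⊥) (hT2 : (T : Subgroup M) ≠ ⊤)
    (hab : ∀ a ∈ (T : Subgroup M), ∀ b ∈ (T : Subgroup M), a * b = b * a)
    (hN : normalizer ((T : Subgroup M) : Set M) ≤ T) : False := by
  have hc : normalizer ((T : Subgroup M) : Set M) ≤ centralizer ((T : Subgroup M) : Set M) :=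
    hN.trans fun a ha => mem_centralizer_iff.2 fun b hb => hab b hb a ha
  have h := MonoidHom.ker_transferSylow_isComplement' T hc
  rcases IsSimpleGroup.eq_bot_or_eq_top_of_normal (MonoidHom.transferSylow T hc).ker inferInstance with h0 | h0
  · rw [h0] at h
    exact hT2 (isComplement'_bot_left.1 h)
  · rw [h0] at h
    exact hT1 (isComplement'_top_left.1 h)

/-- The local data at `p` of a simple normal subgroup. -/
theorem exists_local (M : Subgroup X) [M.Normal] [IsSimpleGroup M] (p : ℕ) [Fact p.Prime] {k m : ℕ}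
    (hM : Nat.card M = p ^ k * m) (hm : ¬ p ∣ m) (hk : k ≠ 0) (hm1 : m ≠ 1) :
    ∃ (P : Subgroup X) (a n : ℕ), P ≤ M ∧ Nat.card P = p ^ k ∧ IsPGroup p P ∧
      Nat.card ↥(normalizer (P : Set X) ⊓ M) = a ∧
      Nat.card (normalizer (P : Set X)) = M.index * a ∧ a * n = p ^ k * m ∧ p ^ k ∣ a ∧ n % p = 1 ∧ n ≠ 1 := by
  obtain ⟨Q, hQ⟩ := Sylow.exists_subgroup_card_pow_prime (G := M) p (n := k) (hM ▸ dvd_mul_right _ _)
  have hPc : Nat.card (Q.map M.subtype) = p ^ k := by rw [card_map_of_injective M.subtype_injective, hQ]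
  have hidx : ¬ p ∣ (Q.map M.subtype).relIndex M := by
    rw [relIndex, subgroupOf, comap_map_eq_self_of_injective M.subtype_injective]
    have := Q.card_mul_index
    rw [hQ, hM] at this
    rwa [Nat.eq_of_mul_eq_mul_left (pow_pos (Fact.out : p.Prime).pos k) this]
  obtain ⟨h1, h2, h3⟩ := frattini_card M (map_subtype_le Q) (IsPGroup.of_card hPc) hidx
  have hmod : Nat.card (Sylow p M) % p = 1 :=
    Eq.trans (card_sylow_modEq_one p M : _ % p = 1 % p) (Nat.mod_eq_of_lt (Fact.out : p.Prime).one_lt)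
  refine ⟨_, _, Nat.card (Sylow p M), map_subtype_le Q, hPc, IsPGroup.of_card hPc, rfl, h1, h2.trans hM,
    hPc ▸ h3, hmod, fun h => ?_⟩
  obtain ⟨S⟩ : Nonempty (Sylow p M) := inferInstance
  haveI := (Nat.card_eq_one_iff_unique.1 h).1
  rcases IsSimpleGroup.eq_bot_or_eq_top_of_normal (S : Subgroup M) (Sylow.normal_of_subsingleton S) with h0 | h0
  · exact hk ((Nat.eq_zero_or_pos k).resolve_right fun hk0 =>
      S.ne_bot_of_dvd_card (hM ▸ dvd_mul_of_dvd_left (dvd_pow_self p hk0.ne') m) h0)
  · obtain ⟨j, hj⟩ := IsPGroup.iff_card.1 S.2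
    rw [h0, card_top, hM] at hj
    obtain ⟨l, -, hl⟩ := (Nat.dvd_prime_pow (Fact.out : p.Prime)).1 (Dvd.intro_left _ hj : m ∣ p ^ j)
    exact hm (hl ▸ dvd_pow_self p fun h0 => hm1 (by rw [hl, h0, pow_zero]))

theorem dvd_factor {a n m P : ℕ} (hP : 0 < P) (h : a * n = P * m) (hd : P ∣ a) : n ∣ m := by
  obtain ⟨c, rfl⟩ := hd
  exact ⟨c, (Nat.eq_of_mul_eq_mul_left hP (by rw [← mul_assoc]; exact h)).symm.trans (mul_comm _ _)⟩

/-- A group with all element orders prime powers and a simple normal subgroup of order 60 is that subgroup,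
as far as the order is concerned. -/
theorem index_eq_one_sixty (hpp : ∀ g : X, g ≠ 1 → IsPrimePow (orderOf g)) (M : Subgroup X) [M.Normal]
    [IsSimpleGroup M] (hM : Nat.card M = 60) : M.index = 1 := by
  haveI : Fact (Nat.Prime 5) := ⟨by norm_num⟩
  haveI : Fact (Nat.Prime 3) := ⟨Nat.prime_three⟩
  obtain ⟨P, a, n, -, hP, hPp, -, hN, han, hda, hn5, hn1⟩ :=
    exists_local M 5 (k := 1) (m := 12) (by rw [hM]; norm_num) (by norm_num) one_ne_zero (by norm_num)
  obtain ⟨Q, b, l, -, hQ, hQp, -, hN', hbl, hdb, hl3, hl1⟩ :=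
    exists_local M 3 (k := 1) (m := 20) (by rw [hM]; norm_num) (by norm_num) one_ne_zero (by norm_num)
  have ha : a = 10 := by
    have h1 := Nat.le_of_dvd (by norm_num) (dvd_factor (by norm_num) han hda)
    have h2 := dvd_factor (by norm_num) han hda
    interval_cases n <;> omega
  have hb : b = 6 := by
    have h2 := dvd_factor (by norm_num) hbl hdb
    have h1 := Nat.le_of_dvd (by norm_num) h2
    interval_cases l <;> try omega
    exfalso
    have h5 := prime_pow_dvd_sub_one hpp hQp (q := 5) (n := 1) (by norm_num) (by norm_num)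
      (by rw [pow_one, hN', show b = 15 by omega]; exact dvd_mul_of_dvd_right (by norm_num) _)
    rw [hQ] at h5
    norm_num at h5
  by_contra hi
  obtain ⟨q, hq, hqd⟩ := Nat.exists_prime_and_dvd hi
  obtain ⟨c, hc⟩ := hqd
  by_cases hq2 : q = 2
  · subst hq2
    have h := prime_pow_dvd_sub_one hpp hQp (q := 2) (n := 2) Nat.prime_two (by norm_num)
      (by rw [hN', hb, hc]; exact ⟨3 * c, by ring⟩)
    rw [hQ] at h
    norm_num at h
  by_cases hq3 : q = 3
  · subst hq3
    have h := prime_pow_dvd_sub_one hpp hPp (q := 3) (n := 1) Nat.prime_three (by norm_num)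
      (by rw [hN, hc, pow_one]; exact dvd_mul_of_dvd_left (dvd_mul_right _ _) _)
    rw [hP] at h
    norm_num at h
  have h := prime_pow_dvd_sub_one hpp hQp (q := q) (n := 1) hq (Ne.symm hq3)
    (by rw [hN', hc, pow_one]; exact dvd_mul_of_dvd_left (dvd_mul_right _ _) _)
  rw [hQ, pow_one, pow_one] at h
  exact hq2 ((Nat.prime_dvd_prime_iff_eq hq Nat.prime_two).1 h)

end CfsgLib.Recog.SmallOrders
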