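import Cfsg.Agent.Lib.Recog.SmallOrders.AlmostSimple

/-!
Owner: helper3. A group with element orders at most five and a simple normal subgroup of order 360 is that
subgroup: an outer involution would act as an odd permutation on the ten cosets of the normaliser of a Sylow
3-subgroup, an outer element of order four as an even one.
-/

set_option autoImplicit false

namespace CfsgLib.Recog.SmallOrders

open Subgroup

universe u

variable {X : Type u} [Group X] [Finite X]

theorem centralizer_pGroup (hpp : ∀ g : X, g ≠ 1 → IsPrimePow (orderOf g)) {x : X} {p : ℕ} [Fact p.Prime]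
    (hx : orderOf x = p) : IsPGroup p (centralizer ({x} : Set X)) := by
  intro c
  by_cases hc : (c : X) = 1
  · exact ⟨0, Subtype.ext (by simp [hc])⟩
  obtain ⟨q, k, hq, hk, he⟩ := hpp _ hc
  by_cases hqp : q = p
  · exact ⟨k, Subtype.ext (by rw [Subgroup.coe_pow, ← hqp, he, pow_orderOf_eq_one]; rfl)⟩
  exact (Orders.eppo_commute hpp hq.nat_prime (Fact.out : p.Prime) hqp hc (i := k)
    (by rw [he, pow_orderOf_eq_one]) hx (mem_centralizer_singleton_iff.1 c.2)).elim

/-- A simple subgroup of order 360 in a group with prime power orders has no abelian subgroup of order 8. -/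
theorem not_abelian_eight (hpp : ∀ g : X, g ≠ 1 → IsPrimePow (orderOf g)) (M : Subgroup X) [IsSimpleGroup M]
    (hM : Nat.card M = 360) (T : Subgroup M) (hT : Nat.card T = 8) : ¬ ∀ a ∈ T, ∀ b ∈ T, a * b = b * a := by
  intro hab
  haveI : Fact (Nat.Prime 2) := ⟨Nat.prime_two⟩
  have hppM : ∀ g : M, g ≠ 1 → IsPrimePow (orderOf g) := fun g hg => by
    rw [← Subgroup.orderOf_coe]; exact hpp _ fun h => hg (Subtype.ext h)
  have hidx : ¬ 2 ∣ T.index := by
    have h := T.card_mul_index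
    rw [hT, hM] at h
    omega
  set S : Sylow 2 M := (IsPGroup.of_card (n := 3) (by rw [hT]; norm_num) : IsPGroup 2 T).toSylow hidx with hS
  have hSc : (S : Subgroup M) = T := rfl
  refine not_selfNormalizing_abelian S (fun h => ?_) (fun h => ?_) (hSc.symm ▸ hab) ?_
  · rw [hSc] at h; rw [h, card_bot] at hT; norm_num at hT
  · rw [hSc] at h; rw [h, card_top, hM] at hT; norm_num at hT
  rw [hSc]
  have hN : Nat.card (normalizer (T : Set M)) ∣ 8 := by
    refine (Nat.dvd_iff_prime_pow_dvd_dvd 8 _).2 fun q k hq hd => ?_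
    by_cases hq2 : 2 = q
    · subst hq2
      have h := hd.trans (card_subgroup_dvd_card (normalizer (T : Set M)))
      rw [hM] at h
      rcases Nat.lt_or_ge k 4 with h4 | h4
      · exact (pow_dvd_pow 2 (by omega : k ≤ 3)).trans (by norm_num)
      · have := (pow_dvd_pow 2 h4).trans h
        norm_num at this
    have h := prime_pow_dvd_sub_one hppM (IsPGroup.of_card (n := 3) (by rw [hT]; norm_num)) hq hq2 hd
    rw [hT] at h
    rcases k.eq_zero_or_pos with rfl | hk
    · simp
    have h7 : q ∣ 7 := (dvd_pow_self q hk.ne').trans h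
    rw [(Nat.prime_dvd_prime_iff_eq hq (by norm_num)).1 h7] at hd
    have h' := ((dvd_pow_self 7 hk.ne').trans hd).trans (card_subgroup_dvd_card _)
    rw [hM] at h'
    norm_num at h'
  exact (eq_of_le_of_card_ge le_normalizer (hT ▸ Nat.le_of_dvd (by norm_num) hN)).ge

theorem card_le_nine (hX : Nat.card X = 720) {K : Subgroup X} (hK : IsPGroup 3 K) : Nat.card K ≤ 9 := by
  haveI : Fact (Nat.Prime 3) := ⟨Nat.prime_three⟩
  obtain ⟨n, hn⟩ := IsPGroup.iff_card.1 hK
  have h := hn ▸ card_subgroup_dvd_card K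
  rw [hX] at h
  rw [hn]
  rcases Nat.lt_or_ge n 3 with h3 | h3
  · exact (Nat.pow_le_pow_right (by norm_num) (by omega : n ≤ 2)).trans (by norm_num)
  · have := (pow_dvd_pow 3 h3).trans h
    norm_num at this

theorem sylow_three_comm {P : Subgroup X} (hP : Nat.card P = 9) : ∀ x ∈ P, ∀ y ∈ P, x * y = y * x := by
  haveI : Fact (Nat.Prime 3) := ⟨Nat.prime_three⟩
  exact fun x hx y hy => congrArg Subtype.val
    (IsPGroup.commutative_of_card_eq_prime_sq (p := 3) (G := P) (by rw [hP]; norm_num) ⟨x, hx⟩ ⟨y, hy⟩)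

theorem mem_sylow_three_of_commute (hpp : ∀ g : X, g ≠ 1 → IsPrimePow (orderOf g)) (hord : ∀ g : X, orderOf g ≤ 5)
    (hX : Nat.card X = 720) {P : Subgroup X} (hP : Nat.card P = 9) {x : X} (hx : x ∈ P) (hx1 : x ≠ 1) {c : X}
    (hc : c * x = x * c) : c ∈ P := by
  haveI : Fact (Nat.Prime 3) := ⟨Nat.prime_three⟩
  have hx9 : orderOf x ∣ 3 ^ 2 := by
    have h := orderOf_dvd_natCard (⟨x, hx⟩ : P)
    rw [← Subgroup.orderOf_coe, hP] at h
    exact h
  obtain ⟨l, hl2, hl⟩ := (Nat.dvd_prime_pow Nat.prime_three).1 hx9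
  have hx3 : orderOf x = 3 := by
    have := hord x
    interval_cases l
    · exact absurd (orderOf_eq_one_iff.1 (by rw [hl, pow_zero])) hx1
    · rw [hl]; norm_num
    · rw [hl] at this; norm_num at this
  have hle : P ≤ centralizer ({x} : Set X) := fun y hy =>
    mem_centralizer_singleton_iff.2 (sylow_three_comm hP y hy x hx)
  rw [eq_of_le_of_card_ge hle (hP ▸ card_le_nine hX (centralizer_pGroup hpp hx3))]
  exact mem_centralizer_singleton_iff.2 hc

theorem inverts (hpp : ∀ g : X, g ≠ 1 → IsPrimePow (orderOf g)) (hord : ∀ g : X, orderOf g ≤ 5)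
    (hX : Nat.card X = 720) {P : Subgroup X} (hP : Nat.card P = 9) {v : X} (hv : v ∈ normalizer (P : Set X))
    (hv2 : orderOf v = 2) {x : X} (hx : x ∈ P) : v * x * v⁻¹ = x⁻¹ := by
  have hvv : v * v = 1 := by rw [← pow_two, ← hv2, pow_orderOf_eq_one]
  have hy : v * x * v⁻¹ ∈ P := (mem_normalizer_iff.1 hv x).1 hx
  have hyx := sylow_three_comm hP x hx _ hy
  rw [inv_eq_of_mul_eq_one_right hvv] at hy hyx ⊢
  have hfix : v * (x * (v * x * v)) = x * (v * x * v) * v := by
    calc v * (x * (v * x * v)) = (v * x * v * x) * v := by group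
      _ = x * (v * x * v) * v := by rw [hyx]
  by_contra hne
  have hvP := mem_sylow_three_of_commute hpp hord hX hP (mul_mem hx hy)
    (fun h => hne (eq_inv_of_mul_eq_one_right h)) hfix
  have h := orderOf_dvd_natCard (⟨v, hvP⟩ : P)
  rw [← Subgroup.orderOf_coe, show orderOf ((⟨v, hvP⟩ : P) : X) = 2 from hv2, hP] at h
  omega

theorem involutions_mul_mem (hpp : ∀ g : X, g ≠ 1 → IsPrimePow (orderOf g)) (hord : ∀ g : X, orderOf g ≤ 5)
    (hX : Nat.card X = 720) {P : Subgroup X} (hP : Nat.card P = 9) {v w : X} (hv : v ∈ normalizer (P : Set X))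
    (hv2 : orderOf v = 2) (hw : w ∈ normalizer (P : Set X)) (hw2 : orderOf w = 2) : v * w ∈ P := by
  obtain ⟨x, hx, hx1⟩ : ∃ x ∈ P, x ≠ 1 := by
    by_contra h
    push Not at h
    obtain rfl : P = ⊥ := eq_bot_iff.2 fun a ha => mem_bot.2 (h a ha)
    rw [card_bot] at hP
    norm_num at hP
  refine mem_sylow_three_of_commute hpp hord hX hP hx hx1 (mul_inv_eq_iff_eq_mul.1 ?_)
  calc v * w * x * (v * w)⁻¹ = v * (w * x * w⁻¹) * v⁻¹ := by group
    _ = x := by rw [inverts hpp hord hX hP hw hw2 hx, inverts hpp hord hX hP hv hv2 (inv_mem hx), inv_inv]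

/-- The configuration inside the normaliser of a Sylow 3-subgroup. -/
theorem exists_pair (hpp : ∀ g : X, g ≠ 1 → IsPrimePow (orderOf g)) (hord : ∀ g : X, orderOf g ≤ 5)
    (hX : Nat.card X = 720) (M : Subgroup X) [M.Normal] (hi : M.index = 2) {P : Subgroup X}
    (hP : Nat.card P = 9) (hN : Nat.card ↥(normalizer (P : Set X) ⊓ M) = 36)
    (hNX : Nat.card (normalizer (P : Set X)) = 72) :
    ∃ u c : X, u ∈ normalizer (P : Set X) ∧ u ∉ M ∧ c ∈ M ∧ c ∈ normalizer (P : Set X) ∧ orderOf c = 4 ∧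
      orderOf u = 4 ∧ u ^ 2 = c ^ 2 ∧ u * c * u⁻¹ = c⁻¹ := by
  haveI : Fact (Nat.Prime 2) := ⟨Nat.prime_two⟩
  set N := normalizer (P : Set X) with hNdef
  obtain ⟨H, hH⟩ := Sylow.exists_subgroup_card_pow_prime (G := N) 2 (n := 3) (by rw [hNX]; norm_num)
  set H' := H.map N.subtype with hH'
  have hH'c : Nat.card H' = 8 := by rw [hH', card_map_of_injective N.subtype_injective, hH]; norm_num
  have hHN : H' ≤ N := map_subtype_le H
  have hHdisj : ∀ g ∈ H', g ∈ P → g = 1 := fun g hg hgP => by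
    have h1 := orderOf_dvd_natCard (⟨g, hg⟩ : H')
    have h2 := orderOf_dvd_natCard (⟨g, hgP⟩ : P)
    rw [← Subgroup.orderOf_coe, hH'c] at h1
    rw [← Subgroup.orderOf_coe, hP] at h2
    exact orderOf_eq_one_iff.1 (Nat.eq_one_of_dvd_coprimes (by norm_num : Nat.Coprime 8 9) h1 h2)
  have hHinv : ∀ v ∈ H', orderOf v = 2 → ∀ w ∈ H', orderOf w = 2 → v = w := by
    intro v hv hv2 w hw hw2
    have hww : w * w = 1 := by rw [← pow_two, ← hw2, pow_orderOf_eq_one]
    rw [eq_inv_of_mul_eq_one_left (hHdisj _ (mul_mem hv hw)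
      (involutions_mul_mem hpp hord hX hP (hHN hv) hv2 (hHN hw) hw2)), inv_eq_of_mul_eq_one_right hww]
  have hHord : ∀ g ∈ H', g ≠ 1 → orderOf g = 2 ∨ orderOf g = 4 := fun g hg hg1 => by
    have h1 := orderOf_dvd_natCard (⟨g, hg⟩ : H')
    rw [← Subgroup.orderOf_coe, hH'c] at h1
    have h2 := hord g
    obtain ⟨l, hl, hl'⟩ := (Nat.dvd_prime_pow Nat.prime_two).1 (show orderOf g ∣ 2 ^ 3 from h1)
    rw [hl'] at h2 ⊢
    interval_cases l
    · exact absurd (orderOf_eq_one_iff.1 (by rw [hl', pow_zero])) hg1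
    · exact Or.inl (by norm_num)
    · exact Or.inr (by norm_num)
    · norm_num at h2
  have hHM : Nat.card ↥(H' ⊓ M) = 4 := by
    have h1 : M.relIndex H' ∣ 2 := hi ▸ relIndex_dvd_index_of_normal M H'
    have h2 := relIndex_mul_relIndex (H := ⊥) (K := M ⊓ H') (L := H') bot_le inf_le_right
    rw [relIndex_bot_left, relIndex_bot_left, inf_relIndex_right, hH'c, inf_comm] at h2
    have h3 : Nat.card ↥(H' ⊓ M) ∣ 36 := hN ▸ card_dvd_of_le (inf_le_inf_right M hHN)
    rcases (Nat.dvd_prime Nat.prime_two).1 h1 with h | h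
    · rw [h, mul_one] at h2; rw [h2] at h3; norm_num at h3
    · rw [h] at h2; omega
  obtain ⟨u, hu, huM⟩ : ∃ u ∈ H', u ∉ M := by
    by_contra h
    push Not at h
    rw [inf_eq_left.2 h, hH'c] at hHM
    norm_num at hHM
  obtain ⟨c, hc, hc4⟩ : ∃ c ∈ H' ⊓ M, orderOf c = 4 := by
    by_contra h
    push Not at h
    have hle : ∀ a b : ↥(H' ⊓ M), a ≠ 1 → b ≠ 1 → a = b := by
      intro a b ha hb
      have ha' : (a : X) ≠ 1 := fun e => ha (Subtype.ext e)
      have hb' : (b : X) ≠ 1 := fun e => hb (Subtype.ext e)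
      exact Subtype.ext (hHinv _ a.2.1 ((hHord _ a.2.1 ha').resolve_right (h _ a.2)) _ b.2.1
        ((hHord _ b.2.1 hb').resolve_right (h _ b.2)))
    haveI := Fintype.ofFinite ↥(H' ⊓ M)
    classical
    have : Nat.card ↥(H' ⊓ M) ≤ 2 := by
      rw [Nat.card_eq_fintype_card, ← Finset.card_univ, ← Finset.card_erase_add_one (Finset.mem_univ 1)]
      have : (Finset.univ.erase (1 : ↥(H' ⊓ M))).card ≤ 1 :=
        Finset.card_le_one.2 fun a ha b hb => hle a b (Finset.ne_of_mem_erase ha) (Finset.ne_of_mem_erase hb)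
      omega
    omega
  have hu1 : u ≠ 1 := fun h => huM (h ▸ one_mem M)
  have hz2 : ∀ g : X, orderOf g = 4 → orderOf (g ^ 2) = 2 := fun g hg => by
    rw [orderOf_pow' g two_ne_zero, hg]; rfl
  have hzH : c ^ 2 ∈ H' := pow_mem hc.1 2
  have hzM : c ^ 2 ∈ M := pow_mem hc.2 2
  have hu4 : orderOf u = 4 :=
    (hHord u hu hu1).resolve_left fun h => huM (hHinv u hu h _ hzH (hz2 c hc4) ▸ hzM)
  have huz : u ^ 2 = c ^ 2 := hHinv _ (pow_mem hu 2) (hz2 u hu4) _ hzH (hz2 c hc4)
  refine ⟨u, c, hHN hu, huM, hc.2, hHN hc.1, hc4, hu4, huz, ?_⟩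
  have hcyc : zpowers c = H' ⊓ M := eq_of_le_of_card_ge (zpowers_le.2 hc) (by rw [hHM, Nat.card_zpowers, hc4])
  have hmem : u * c * u⁻¹ ∈ zpowers c := by
    rw [hcyc]
    exact mem_inf.2 ⟨mul_mem (mul_mem hu hc.1) (inv_mem hu), Subgroup.Normal.conj_mem inferInstance c hc.2 u⟩
  obtain ⟨k, hk⟩ := mem_zpowers_iff.1 hmem
  rw [← zpow_mod_orderOf, hc4] at hk
  have h0 : (0 : ℤ) ≤ k % (4 : ℕ) := Int.emod_nonneg _ (by norm_num)
  have h4 : k % (4 : ℕ) < 4 := Int.emod_lt_of_pos _ (by norm_num)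
  have hord4 : orderOf (u * c * u⁻¹) = 4 :=
    (((MulAut.conj u).orderOf_eq c : orderOf (MulAut.conj u c) = _)).trans hc4
  interval_cases k % (4 : ℕ)
  · rw [zpow_zero] at hk; rw [← hk, orderOf_one] at hord4; norm_num at hord4
  · exfalso
    rw [zpow_one] at hk
    have hcomm : Commute u c := mul_inv_eq_iff_eq_mul.1 hk.symm
    have h2 : (u * c) ^ 2 = 1 := by
      rw [hcomm.mul_pow, huz, ← pow_add, show 2 + 2 = orderOf c from hc4.symm, pow_orderOf_eq_one]
    by_cases h1 : u * c = 1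
    · exact huM (eq_inv_of_mul_eq_one_left h1 ▸ inv_mem hc.2)
    have := hHinv _ (mul_mem hu hc.1) (orderOf_eq_prime h2 h1) _ hzH (hz2 c hc4)
    exact huM ((mul_mem_cancel_right (H := M) hc.2).1 (this.symm ▸ hzM))
  · rw [zpow_ofNat] at hk; rw [← hk, hz2 c hc4] at hord4; norm_num at hord4
  · rw [← hk, zpow_ofNat]
    exact eq_inv_of_mul_eq_one_left (by rw [← pow_succ, show 3 + 1 = orderOf c from hc4.symm, pow_orderOf_eq_one])

/-- An involution of the normaliser fixes exactly two of the ten cosets. -/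
theorem fixed_points (hpp : ∀ g : X, g ≠ 1 → IsPrimePow (orderOf g)) (hord : ∀ g : X, orderOf g ≤ 5)
    (hX : Nat.card X = 720) {P : Subgroup X} (hP : Nat.card P = 9)
    (hNX : Nat.card (normalizer (P : Set X)) = 72) {z : X} (hz : z ∈ normalizer (P : Set X))
    (hz2 : orderOf z = 2) :
    ∃ w₁ : X ⧸ normalizer (P : Set X), w₁ ≠ ((1 : X) : X ⧸ normalizer (P : Set X)) ∧ z • w₁ = w₁ ∧
      ∀ w : X ⧸ normalizer (P : Set X), z • w = w → w = ((1 : X) : X ⧸ normalizer (P : Set X)) ∨ w = w₁ := by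
  haveI : Fact (Nat.Prime 3) := ⟨Nat.prime_three⟩
  have hP3 : IsPGroup 3 P := IsPGroup.of_card (n := 2) (by rw [hP]; norm_num)
  set N := normalizer (P : Set X) with hNdef
  set o : X ⧸ N := ((1 : X) : X ⧸ N) with ho
  have hofix : ∀ g : X, g • o = o ↔ g ∈ N := fun g => by
    rw [ho, MulAction.Quotient.smul_mk, smul_eq_mul, mul_one, QuotientGroup.eq, mul_one, inv_mem_iff]
  have hΩ : Nat.card (X ⧸ N) = 10 := by
    have := N.card_mul_index
    rw [hNX, hX, index] at this
    omega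
  have hsemi : ∀ w : X ⧸ N, w ≠ o → ∀ r ∈ P, r • w = w → r = 1 := by
    intro w hw r hr hrw
    induction w using QuotientGroup.induction_on with
    | H g =>
      by_contra hr1
      rw [MulAction.Quotient.smul_mk, smul_eq_mul, QuotientGroup.eq,
        show (r * g)⁻¹ * g = (g⁻¹ * r * g)⁻¹ by group, inv_mem_iff] at hrw
      have hmem : g⁻¹ * r * g ∈ P := by
        have h3 : IsPGroup 3 (zpowers (g⁻¹ * r * g)) := by
          have h : g⁻¹ * r * g ∈ P.map (MulAut.conj g⁻¹).toMonoidHom :=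
            ⟨r, hr, by simp [MulAut.conj_apply]⟩
          exact (hP3.map _).to_le (zpowers_le.2 h)
        have hsup : IsPGroup 3 (zpowers (g⁻¹ * r * g) ⊔ P : Subgroup X) :=
          h3.to_sup_of_normal_right' hP3 (zpowers_le.2 hrw)
        rw [eq_of_le_of_card_ge (le_sup_right : P ≤ zpowers (g⁻¹ * r * g) ⊔ P) (hP ▸ card_le_nine hX hsup)]
        exact le_sup_left (α := Subgroup X) (mem_zpowers _)
      refine hw ((QuotientGroup.eq).2 ?_ : ((g : X) : X ⧸ N) = ((1 : X) : X ⧸ N))
      rw [mul_one, inv_mem_iff, hNdef]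
      have hsub : P.map (MulAut.conj g).toMonoidHom ≤ P := by
        rintro _ ⟨y, hy, rfl⟩
        refine mem_sylow_three_of_commute hpp hord hX hP hr hr1 ?_
        show g * y * g⁻¹ * r = r * (g * y * g⁻¹)
        calc g * y * g⁻¹ * r = g * (y * (g⁻¹ * r * g)) * g⁻¹ := by group
          _ = g * ((g⁻¹ * r * g) * y) * g⁻¹ := by rw [sylow_three_comm hP y hy _ hmem]
          _ = r * (g * y * g⁻¹) := by group
      have heq := eq_of_le_of_card_ge hsub
        (card_map_of_injective (f := (MulAut.conj g).toMonoidHom) (MulAut.conj g).injective).ge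
      rw [mem_normalizer_iff]
      intro y
      refine ⟨fun hy => heq ▸ ⟨y, hy, rfl⟩, fun hy => ?_⟩
      rw [← heq] at hy
      obtain ⟨y', hy', he⟩ := hy
      exact (MulAut.conj g).injective he ▸ hy'
  have hP9 : ∀ w : X ⧸ N, w ≠ o → ∀ w' : X ⧸ N, w' ≠ o → ∃ r ∈ P, r • w = w' := by
    intro w hw w' hw'
    have hne : ∀ r : P, (r : X) • w ≠ o := fun r h => hw (by
      rw [← inv_smul_smul (r : X) w, h, (hofix _).2 (le_normalizer (inv_mem r.2))])
    have hinj : Function.Injective (fun r : P => (⟨(r : X) • w, hne r⟩ : {w : X ⧸ N // w ≠ o})) := by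
      intro r s h
      have h' : (r : X) • w = (s : X) • w := congrArg Subtype.val h
      refine Subtype.ext (inv_mul_eq_one.1 (hsemi w hw _ (mul_mem (inv_mem r.2) s.2) ?_))
      rw [mul_smul, ← h', inv_smul_smul]
    have hcard : Nat.card {w : X ⧸ N // w ≠ o} = Nat.card P := by
      haveI := Fintype.ofFinite (X ⧸ N)
      classical
      rw [Nat.card_eq_fintype_card, Fintype.card_subtype_compl, Fintype.card_subtype_eq,
        ← Nat.card_eq_fintype_card, hΩ, hP]
    obtain ⟨r, hr⟩ := ((Nat.bijective_iff_injective_and_card _).2 ⟨hinj, hcard.symm⟩).2 ⟨w', hw'⟩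
    exact ⟨r, r.2, congrArg Subtype.val hr⟩
  have hzo : z • o = o := (hofix z).2 hz
  have hzinv : ∀ r ∈ P, z * r = r⁻¹ * z := fun r hr =>
    mul_inv_eq_iff_eq_mul.1 (inverts hpp hord hX hP hz hz2 hr)
  obtain ⟨w, hw⟩ : ∃ w : X ⧸ N, w ≠ o := by
    by_contra h
    push Not at h
    haveI : Subsingleton (X ⧸ N) := ⟨fun a b => (h a).trans (h b).symm⟩
    rw [Nat.card_of_subsingleton o] at hΩ
    norm_num at hΩ
  obtain ⟨r, hr, hrw⟩ := hP9 w hw (z • w) fun h => hw (MulAction.injective z (h.trans hzo.symm))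
  have hw₁ : (r ^ 5) • w ≠ o := fun h =>
    hw (MulAction.injective (r ^ 5) (h.trans ((hofix _).2 (le_normalizer (pow_mem hr 5))).symm))
  have hzw₁ : z • ((r ^ 5) • w) = (r ^ 5) • w := by
    have h9 : r ^ 9 = 1 := hP ▸ congrArg Subtype.val (pow_card_eq_one' (x := (⟨r, hr⟩ : P)))
    rw [← mul_smul, hzinv _ (pow_mem hr 5), mul_smul, ← hrw, ← mul_smul]
    congr 1
    rw [inv_mul_eq_iff_eq_mul, ← pow_add, show r ^ (5 + 5) = r ^ 9 * r from pow_succ r 9, h9, one_mul]
  refine ⟨_, hw₁, hzw₁, fun w' hw' => ?_⟩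
  by_cases hwo : w' = o
  · exact Or.inl hwo
  obtain ⟨s, hs, rfl⟩ := hP9 _ hw₁ w' hwo
  rw [← mul_smul z s, hzinv s hs, mul_smul, hzw₁, inv_smul_eq_iff, ← mul_smul] at hw'
  have h2 : s * s = 1 := hsemi _ hw₁ _ (mul_mem hs hs) hw'.symm
  have h1 : orderOf s ∣ 2 := orderOf_dvd_of_pow_eq_one (by rw [pow_two, h2])
  have h3 := orderOf_dvd_natCard (⟨s, hs⟩ : P)
  rw [← Subgroup.orderOf_coe, hP] at h3
  rw [orderOf_eq_one_iff.1 (Nat.eq_one_of_dvd_coprimes (by norm_num : Nat.Coprime 2 9) h1 h3), one_smul]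
  exact Or.inr rfl

/-- A subgroup of order eight with a central element of order four is abelian. -/
theorem comm_of_card_eight {G : Type*} [Group G] [Finite G] {T : Subgroup G} (hT : Nat.card T = 8) {c : G}
    (hc : c ∈ T) (hc4 : orderOf c = 4) (hcen : ∀ a ∈ T, a * c = c * a) : ∀ a ∈ T, ∀ b ∈ T, a * b = b * a := by
  have hle : zpowers (⟨c, hc⟩ : T) ≤ center T :=
    zpowers_le.2 (mem_center_iff.2 fun y => Subtype.ext (hcen y y.2))
  obtain ⟨d, hd⟩ : 4 ∣ Nat.card (center T) := by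
    have := card_dvd_of_le hle
    rwa [Nat.card_zpowers, ← Subgroup.orderOf_coe, show ((⟨c, hc⟩ : T) : G) = c from rfl, hc4] at this
  have h := (center T).card_mul_index
  rw [hT, hd] at h
  haveI : Fact (Nat.Prime 2) := ⟨Nat.prime_two⟩
  have hd2 : (center T).index ∣ 2 := ⟨d, by linarith⟩
  haveI : IsCyclic (T ⧸ center T) := by
    rcases (Nat.dvd_prime Nat.prime_two).1 hd2 with h1 | h1
    · haveI := Finite.card_le_one_iff_subsingleton.1 (show Nat.card (T ⧸ center T) ≤ 1 from h1.le)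
      infer_instance
    · exact isCyclic_of_prime_card (p := 2) h1
  intro a ha b hb
  exact congrArg Subtype.val ((commGroupOfCyclicCenterQuotient (QuotientGroup.mk' (center T)) (by simp)).mul_comm
    (⟨a, ha⟩ : T) ⟨b, hb⟩)

theorem exists_outer_involution (hpp : ∀ g : X, g ≠ 1 → IsPrimePow (orderOf g)) (hord : ∀ g : X, orderOf g ≤ 5)
    (M : Subgroup X) [M.Normal] [IsSimpleGroup M] (hM : Nat.card M = 360) (hi : M.index = 2) {u c : X}
    (huM : u ∉ M) (hcM : c ∈ M) (hc4 : orderOf c = 4) (huc : u * c * u⁻¹ = c⁻¹) :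
    ∃ v : X, v ∉ M ∧ orderOf v = 2 := by
  haveI : Fact (Nat.Prime 2) := ⟨Nat.prime_two⟩
  set c' : M := ⟨c, hcM⟩ with hc'def
  have hc' : orderOf c' = 4 := by rw [← Subgroup.orderOf_coe]; exact hc4
  obtain ⟨T, hT, hTc⟩ := Sylow.exists_subgroup_card_pow_prime_le (G := M) 2 (n := 2) (m := 3)
    (by rw [hM]; norm_num) (zpowers c') (by rw [Nat.card_zpowers, hc']; norm_num) (by norm_num)
  have hcT : c' ∈ T := hTc (mem_zpowers _)
  have hT8 : Nat.card T = 8 := by rw [hT]; norm_num
  obtain ⟨t, ht, htc⟩ : ∃ t ∈ T, t * c' ≠ c' * t := by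
    by_contra h
    push Not at h
    exact not_abelian_eight hpp M hM T hT8 (comm_of_card_eight hT8 hcT hc' h)
  have htinv : (t : X) * c * (t : X)⁻¹ = c⁻¹ := by
    have hidx : ((zpowers c').subgroupOf T).index = 2 := by
      have h2 := relIndex_mul_relIndex (H := ⊥) (K := zpowers c') (L := T) bot_le hTc
      rw [relIndex_bot_left, relIndex_bot_left, Nat.card_zpowers, hc', hT8] at h2
      exact Nat.eq_of_mul_eq_mul_left (by norm_num : 0 < 4) h2
    haveI hnT : ((zpowers c').subgroupOf T).Normal := normal_of_index_eq_two hidx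
    have hmem : t * c' * t⁻¹ ∈ zpowers c' :=
      mem_subgroupOf.1 (hnT.conj_mem (⟨_, hcT⟩ : T) (mem_subgroupOf.2 (mem_zpowers _)) ⟨t, ht⟩)
    obtain ⟨k, hk⟩ := mem_zpowers_iff.1 hmem
    rw [← zpow_mod_orderOf, hc'] at hk
    have h0 : (0 : ℤ) ≤ k % (4 : ℕ) := Int.emod_nonneg _ (by norm_num)
    have h4 : k % (4 : ℕ) < 4 := Int.emod_lt_of_pos _ (by norm_num)
    have hord4 : orderOf (t * c' * t⁻¹) = 4 :=
      (((MulAut.conj t).orderOf_eq _ : orderOf (MulAut.conj t c') = _)).trans hc'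
    interval_cases k % (4 : ℕ)
    · rw [zpow_zero] at hk; rw [← hk, orderOf_one] at hord4; norm_num at hord4
    · rw [zpow_one] at hk
      exact absurd (mul_inv_eq_iff_eq_mul.1 hk.symm) htc
    · rw [zpow_ofNat] at hk
      rw [← hk, orderOf_pow' _ two_ne_zero, hc'] at hord4
      norm_num at hord4
    · rw [zpow_ofNat] at hk
      rw [show (t : X) * c * (t : X)⁻¹ = c ^ 3 from (congrArg Subtype.val hk).symm]
      exact eq_inv_of_mul_eq_one_left (by rw [← pow_succ, show 3 + 1 = orderOf c from hc4.symm, pow_orderOf_eq_one])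
  set w := u * (t : X) with hw
  have hwc : Commute w c := mul_inv_eq_iff_eq_mul.1 (by
    calc u * (t : X) * c * (u * (t : X))⁻¹ = u * ((t : X) * c * (t : X)⁻¹) * u⁻¹ := by group
      _ = (u * c * u⁻¹)⁻¹ := by rw [htinv]; group
      _ = c := by rw [huc, inv_inv])
  have hwM : w ∉ M := fun h => huM ((mul_mem_cancel_right (H := M) t.2).1 h)
  have hz2 : orderOf (c ^ 2) = 2 := by rw [orderOf_pow' c two_ne_zero, hc4]; rfl
  have hC2 : IsPGroup 2 (centralizer ({c} : Set X)) :=
    (centralizer_pGroup hpp hz2).to_le fun y hy =>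
      mem_centralizer_singleton_iff.2 ((show Commute y c from mem_centralizer_singleton_iff.1 hy).pow_right 2).eq
  have hord2 : ∀ g : X, g * c = c * g → g ^ 4 = 1 := by
    intro g hg
    obtain ⟨l, hl⟩ := hC2 ⟨g, mem_centralizer_singleton_iff.2 hg⟩
    obtain ⟨l', -, hl'⟩ := (Nat.dvd_prime_pow Nat.prime_two).1
      (orderOf_dvd_of_pow_eq_one (show g ^ 2 ^ l = 1 from congrArg Subtype.val hl))
    have := hord g
    refine orderOf_dvd_iff_pow_eq_one.1 ?_
    rw [hl'] at this ⊢
    rcases Nat.lt_or_ge l' 3 with h3 | h3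
    · exact pow_dvd_pow 2 (by omega : l' ≤ 2)
    · have := (Nat.pow_le_pow_right (by norm_num : 0 < 2) h3).trans this
      norm_num at this
  have hCc : ∀ g : X, g ∈ M → g * c = c * g → g ∈ zpowers c := by
    intro g hg hgc
    by_contra hgn
    set C : Subgroup M := (centralizer ({c} : Set X)).subgroupOf M with hCdef
    obtain ⟨n, hn⟩ := IsPGroup.iff_card.1 (hC2.comap_subtype (K := M) : IsPGroup 2 C)
    change Nat.card C = 2 ^ n at hn
    have hdvd := hn ▸ card_subgroup_dvd_card C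
    rw [hM] at hdvd
    have hn3 : n ≤ 3 := by
      by_contra h3
      have := (pow_dvd_pow 2 (by omega : 4 ≤ n)).trans hdvd
      norm_num at this
    have hcC : zpowers c' ≤ C := zpowers_le.2 (mem_centralizer_singleton_iff.2 rfl)
    have h4 : 4 < Nat.card C := by
      by_contra h4
      push Not at h4
      have := (eq_of_le_of_card_ge hcC (by rw [Nat.card_zpowers, hc']; exact h4)).ge
        (show (⟨g, hg⟩ : M) ∈ C from mem_centralizer_singleton_iff.2 hgc)
      obtain ⟨k, hk⟩ := mem_zpowers_iff.1 this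
      exact hgn ⟨k, congrArg Subtype.val hk⟩
    have h8 : Nat.card C = 8 := by
      rw [hn] at h4 ⊢
      interval_cases n
      · norm_num at h4
      · norm_num at h4
      · norm_num at h4
      · rfl
    exact not_abelian_eight hpp M hM C h8 (comm_of_card_eight h8 (hcC (mem_zpowers _)) hc'
      fun a ha => Subtype.ext (mem_centralizer_singleton_iff.1 ha))
  have hw1 : w ≠ 1 := fun h => hwM (h ▸ one_mem M)
  by_cases h2 : w ^ 2 = 1
  · exact ⟨w, hwM, orderOf_eq_prime h2 hw1⟩
  have hw2M : w ^ 2 ∈ M := by rw [pow_two]; exact (mul_mem_iff_of_index_two hi).2 Iff.rfl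
  refine ⟨w * c, fun h => hwM ((mul_mem_cancel_right (H := M) hcM).1 h), orderOf_eq_prime ?_
    (fun h => hwM (eq_inv_of_mul_eq_one_left h ▸ inv_mem hcM))⟩
  obtain ⟨k, hk⟩ := mem_zpowers_iff.1 (hCc _ hw2M (hwc.pow_left 2).eq)
  have hsq : (w ^ 2) ^ 2 = 1 := by rw [← pow_mul]; exact hord2 w hwc.eq
  rw [← hk, ← zpow_natCast (c ^ k) 2, ← zpow_mul, ← orderOf_dvd_iff_zpow_eq_one, hc4] at hsq
  have hke : w ^ 2 = c ^ 2 := by
    rw [← zpow_mod_orderOf, hc4] at hk
    have h0 : (0 : ℤ) ≤ k % (4 : ℕ) := Int.emod_nonneg _ (by norm_num)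
    have h4 : k % (4 : ℕ) < 4 := Int.emod_lt_of_pos _ (by norm_num)
    have : k % (4 : ℕ) = 0 ∨ k % (4 : ℕ) = 2 := by omega
    rcases this with h | h <;> rw [h] at hk
    · exact absurd hk.symm (by simpa using h2)
    · rw [← hk, zpow_ofNat]
  rw [hwc.mul_pow, hke, ← pow_add, show 2 + 2 = orderOf c from hc4.symm, pow_orderOf_eq_one]

theorem sign_of_all_parts {α : Type*} [Fintype α] [DecidableEq α] (σ : Equiv.Perm α) (k s : ℕ)
    (h : ∀ n ∈ σ.cycleType, n = k) (hs : σ.support.card = k * s) (hk : k ≠ 0) :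
    Equiv.Perm.sign σ = (-1 : ℤˣ) ^ (k * s + s) := by
  have h' := Multiset.eq_replicate_card.2 h
  have hsum : Multiset.card σ.cycleType * k = k * s := by
    rw [← hs, ← Equiv.Perm.sum_cycleType]
    conv_rhs => rw [h']
    rw [Multiset.sum_replicate, smul_eq_mul]
  rw [Equiv.Perm.sign_of_cycleType, Equiv.Perm.sum_cycleType, hs]
  congr 2
  exact Nat.eq_of_mul_eq_mul_right (Nat.pos_of_ne_zero hk) (hsum.trans (mul_comm _ _))

theorem no_index_two (hpp : ∀ g : X, g ≠ 1 → IsPrimePow (orderOf g)) (hord : ∀ g : X, orderOf g ≤ 5)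
    (M : Subgroup X) [M.Normal] [IsSimpleGroup M] (hM : Nat.card M = 360) (hi : M.index = 2)
    (P : Subgroup X) (hPM : P ≤ M) (hP : Nat.card P = 9)
    (hN : Nat.card ↥(normalizer (P : Set X) ⊓ M) = 36) (hNX : Nat.card (normalizer (P : Set X)) = 72) : False := by
  haveI : Fact (Nat.Prime 2) := ⟨Nat.prime_two⟩
  have hX : Nat.card X = 720 := by rw [← M.card_mul_index, hM, hi]
  obtain ⟨u, c, hu, huM, hcM, hcN, hc4, hu4, huz, huc⟩ := exists_pair hpp hord hX M hi hP hN hNX
  obtain ⟨v, hvM, hv2⟩ := exists_outer_involution hpp hord M hM hi huM hcM hc4 huc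
  have hz : orderOf (c ^ 2) = 2 := by rw [orderOf_pow' c two_ne_zero, hc4]; rfl
  set N := normalizer (P : Set X) with hNdef
  obtain ⟨w₁, hw₁, hzw₁, hzfix⟩ := fixed_points hpp hord hX hP hNX (pow_mem hcN 2) hz
  set o : X ⧸ N := ((1 : X) : X ⧸ N) with ho
  have huo : u • o = o := by
    rw [ho, MulAction.Quotient.smul_mk, smul_eq_mul, mul_one, QuotientGroup.eq, mul_one]
    exact inv_mem hu
  have huw₁ : u • w₁ = w₁ := by
    have hzu : (c ^ 2) • u • w₁ = u • (c ^ 2) • w₁ := by
      rw [← mul_smul, ← mul_smul, ← huz, ← pow_succ, ← pow_succ']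
    rcases hzfix _ (hzu.trans (by rw [hzw₁])) with h | h
    · exact absurd (MulAction.injective u (h.trans huo.symm)) hw₁
    · exact h
  have hΩ : Nat.card (X ⧸ N) = 10 := by
    have := N.card_mul_index
    rw [hNX, hX, index] at this
    omega
  have hvfix : ∀ w : X ⧸ N, v • w ≠ w := by
    intro w
    induction w using QuotientGroup.induction_on with
    | H g =>
      intro h
      rw [MulAction.Quotient.smul_mk, smul_eq_mul, QuotientGroup.eq,
        show (v * g)⁻¹ * g = (g⁻¹ * v * g)⁻¹ by group, inv_mem_iff] at h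
      have ho2 : orderOf (g⁻¹ * v * g) = 2 := by
        rw [← hv2]; simpa using (MulAut.conj g⁻¹).orderOf_eq v
      have hvP := involutions_mul_mem hpp hord hX hP h ho2 (pow_mem hcN 2) hz
      have hm : g⁻¹ * v * g ∈ M := (mul_mem_cancel_right (H := M) (pow_mem hcM 2)).1 (hPM hvP)
      exact hvM (by simpa [mul_assoc] using Subgroup.Normal.conj_mem inferInstance _ hm g)
  haveI := Fintype.ofFinite (X ⧸ N)
  classical
  let π : X →* Equiv.Perm (X ⧸ N) := MulAction.toPermHom X (X ⧸ N)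
  have happ : ∀ (g : X) (w : X ⧸ N), π g w = g • w := fun _ _ => rfl
  let φ : X →* ℤˣ := Equiv.Perm.sign.comp π
  have hMker : ∀ m ∈ M, φ m = 1 := by
    intro m hm
    rcases IsSimpleGroup.eq_bot_or_eq_top_of_normal (φ.comp M.subtype).ker inferInstance with h | h
    · exfalso
      have hinj := (MonoidHom.ker_eq_bot_iff _).1 h
      obtain ⟨T, hT⟩ := Sylow.exists_subgroup_card_pow_prime (G := M) 2 (n := 3) (by rw [hM]; norm_num)
      exact not_abelian_eight hpp M hM T (by rw [hT]; norm_num)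
        fun a _ b _ => hinj (by rw [map_mul, map_mul, mul_comm])
    · exact MonoidHom.mem_ker.1 (h ▸ mem_top (⟨m, hm⟩ : M) : (⟨m, hm⟩ : M) ∈ (φ.comp M.subtype).ker)
  have hsv : φ v = -1 := by
    show Equiv.Perm.sign (π v) = -1
    rw [sign_of_all_parts (π v) 2 5 (fun k hk => le_antisymm
      (Nat.le_of_dvd (by norm_num) ((Equiv.Perm.dvd_of_mem_cycleType hk).trans (hv2 ▸ orderOf_map_dvd π v)))
      (Equiv.Perm.two_le_of_mem_cycleType hk)) ?_ two_ne_zero]
    · decide
    rw [Finset.eq_univ_iff_forall.2 (fun w => Equiv.Perm.mem_support.2 (hvfix w)), Finset.card_univ,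
      ← Nat.card_eq_fintype_card, hΩ]
  have hsu : φ u = 1 := by
    show Equiv.Perm.sign (π u) = 1
    rw [sign_of_all_parts (π u) 4 2 ?_ ?_ (by norm_num)]
    · decide
    · intro k hk
      have hk4 : k ∣ 4 := (Equiv.Perm.dvd_of_mem_cycleType hk).trans (hu4 ▸ orderOf_map_dvd π u)
      have hk2 := Equiv.Perm.two_le_of_mem_cycleType hk
      obtain ⟨l, hl, rfl⟩ := (Nat.dvd_prime_pow Nat.prime_two).1 (show k ∣ 2 ^ 2 from hk4)
      interval_cases l
      · norm_num at hk2
      · exfalso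
        obtain ⟨σ, τ, he, hd, hcy, hsupp⟩ := Equiv.Perm.mem_cycleType_iff.1 hk
        obtain ⟨x, hx, -⟩ := id hcy
        have hσ : σ ^ 2 = 1 := by
          rw [show (2 : ℕ) = orderOf σ by rw [hcy.orderOf, hsupp]; rfl, pow_orderOf_eq_one]
        have hσ2 : σ (σ x) = x := by simpa [pow_two] using congrArg (fun f : Equiv.Perm (X ⧸ N) => f x) hσ
        have hux : ∀ y, σ y ≠ y → u • y = σ y := fun y hy => by
          rw [← happ, he, Equiv.Perm.mul_apply, (hd y).resolve_left hy]
        have hx' : σ (σ x) ≠ σ x := fun h => hx (σ.injective h)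
        have hzx : (c ^ 2) • x = x := by
          rw [← huz, pow_two, mul_smul, hux x hx, hux _ hx', hσ2]
        rcases hzfix x hzx with rfl | rfl
        · exact hx ((hux _ hx).symm.trans huo)
        · exact hx ((hux _ hx).symm.trans huw₁)
      · norm_num
    · have he : (π u).support = Finset.univ \ {o, w₁} := by
        ext w
        rw [Equiv.Perm.mem_support, happ, Finset.mem_sdiff, Finset.mem_insert, Finset.mem_singleton]
        refine ⟨fun h => ⟨Finset.mem_univ _, fun hw => h ?_⟩, fun h e => h.2 (hzfix w ?_)⟩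
        · rcases hw with rfl | rfl
          · exact huo
          · exact huw₁
        · rw [← huz, pow_two, mul_smul, e, e]
      rw [he, Finset.card_sdiff_of_subset (Finset.subset_univ _), Finset.card_univ, ← Nat.card_eq_fintype_card, hΩ,
        Finset.card_pair hw₁.symm]
  have huv : u⁻¹ * v ∈ M := (mul_mem_iff_of_index_two hi).2 (by simp [inv_mem_iff, huM, hvM])
  have := hMker _ huv
  rw [map_mul, map_inv, hsu, hsv] at this
  norm_num at this

/-- A group with all element orders at most five and a simple normal subgroup of order 360 equals it. -/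
theorem index_eq_one_three_sixty (hpp : ∀ g : X, g ≠ 1 → IsPrimePow (orderOf g)) (hord : ∀ g : X, orderOf g ≤ 5)
    (M : Subgroup X) [M.Normal] [IsSimpleGroup M] (hM : Nat.card M = 360) : M.index = 1 := by
  haveI : Fact (Nat.Prime 5) := ⟨by norm_num⟩
  haveI : Fact (Nat.Prime 3) := ⟨Nat.prime_three⟩
  obtain ⟨P, a, n, -, hP, hPp, -, hN, han, hda, hn5, hn1⟩ :=
    exists_local M 5 (k := 1) (m := 72) (by rw [hM]; norm_num) (by norm_num) one_ne_zero (by norm_num)
  obtain ⟨Q, b, l, hQM, hQ, hQp, hQb, hN', hbl, hdb, hl3, hl1⟩ :=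
    exists_local M 3 (k := 2) (m := 40) (by rw [hM]; norm_num) (by norm_num) two_ne_zero (by norm_num)
  rw [show (5 : ℕ) ^ 1 = 5 from rfl] at hP han hda
  rw [show (3 : ℕ) ^ 2 = 9 from rfl] at hQ hbl hdb
  have ha : a = 10 := by
    have h2 := dvd_factor (by norm_num) han hda
    have h1 := Nat.le_of_dvd (by norm_num) h2
    have key : n = 6 ∨ n = 36 := by interval_cases n <;> omega
    rcases key with rfl | rfl
    · exfalso
      have h3 := prime_pow_dvd_sub_one hpp hPp (q := 3) (n := 1) Nat.prime_three (by norm_num)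
        (by rw [pow_one, hN, show a = 60 by omega]; exact dvd_mul_of_dvd_right (by norm_num) _)
      rw [hP] at h3
      norm_num at h3
    · omega
  have hb : b = 36 := by
    have h2 := dvd_factor (by norm_num) hbl hdb
    have h1 := Nat.le_of_dvd (by norm_num) h2
    have key : l = 4 ∨ l = 10 ∨ l = 40 := by interval_cases l <;> omega
    rcases key with rfl | rfl | rfl
    · exfalso
      have h5 := prime_pow_dvd_sub_one hpp hQp (q := 5) (n := 1) (by norm_num) (by norm_num)
        (by rw [pow_one, hN', show b = 90 by omega]; exact dvd_mul_of_dvd_right (by norm_num) _)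
      rw [hQ] at h5
      norm_num at h5
    · omega
    · exfalso
      have hb9 : b = 9 := by omega
      have hQ' : Nat.card (Q.subgroupOf M) = 9 := by
        rw [← hQ]
        exact Nat.card_congr (subgroupOfEquivOfLe hQM).toEquiv
      have hidx : ¬ 3 ∣ (Q.subgroupOf M).index := by
        have h := (Q.subgroupOf M).card_mul_index
        rw [hQ', hM] at h
        omega
      set S : Sylow 3 M := hQp.comap_subtype.toSylow hidx with hS
      have hSc : (S : Subgroup M) = Q.subgroupOf M := rfl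
      refine not_selfNormalizing_abelian S (fun h => ?_) (fun h => ?_)
        (fun x hx y hy => Subtype.ext (sylow_three_comm hQ _ (hSc ▸ hx : x ∈ Q.subgroupOf M) _
          (hSc ▸ hy : y ∈ Q.subgroupOf M))) ?_
      · rw [hSc] at h; rw [h, card_bot] at hQ'; norm_num at hQ'
      · rw [hSc] at h; rw [h, card_top, hM] at hQ'; norm_num at hQ'
      · intro x hx
        rw [hSc, ← subgroupOf_normalizer_eq hQM, mem_subgroupOf] at hx
        rw [hSc, mem_subgroupOf,
          eq_of_le_of_card_ge (le_inf le_normalizer hQM) (by rw [hQb, hb9, hQ])]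
        exact mem_inf.2 ⟨hx, x.2⟩
  have hdiv : M.index ∣ 2 := by
    refine (Nat.dvd_iff_prime_pow_dvd_dvd 2 _).2 fun q k hq hd => ?_
    rcases k.eq_zero_or_pos with rfl | hk
    · simp
    by_cases hq2 : q = 2
    · subst hq2
      have h := prime_pow_dvd_sub_one hpp hPp (q := 2) (n := k + 1) Nat.prime_two (by norm_num)
        (by rw [hN, ha, pow_succ]; exact mul_dvd_mul hd (by norm_num))
      rw [hP] at h
      rcases Nat.lt_or_ge k 2 with h2 | h2
      · rw [show k = 1 by omega]; norm_num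
      · have := (pow_dvd_pow 2 (by omega : 3 ≤ k + 1)).trans h
        norm_num at this
    exfalso
    have hqi : q ∣ M.index := (dvd_pow_self q hk.ne').trans hd
    by_cases hq3 : q = 3
    · subst hq3
      have h := prime_pow_dvd_sub_one hpp hPp (q := 3) (n := 1) Nat.prime_three (by norm_num)
        (by rw [hN, pow_one]; exact dvd_mul_of_dvd_left hqi _)
      rw [hP] at h
      norm_num at h
    have h := prime_pow_dvd_sub_one hpp hQp (q := q) (n := 1) hq (Ne.symm hq3)
      (by rw [hN', pow_one]; exact dvd_mul_of_dvd_left hqi _)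
    rw [hQ, pow_one] at h
    exact hq2 ((Nat.prime_dvd_prime_iff_eq hq Nat.prime_two).1 (hq.dvd_of_dvd_pow (show q ∣ 2 ^ 3 from h)))
  rcases (Nat.dvd_prime Nat.prime_two).1 hdiv with h | h
  · exact h
  · exact (no_index_two hpp hord M hM h Q hQM hQ (hQb.trans hb)
      (by rw [hN', hb, h])).elim

end CfsgLib.Recog.SmallOrders

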