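import Cfsg.Agent.Lib.Recog.SmallOrders.SpectrumFive
import Cfsg.Agent.Lib.Recog.AltPresentation

/-!
Owner: helper3. The critical groups for the spectrum `{1, 2, 3, 4, 5}`: `A₆` and `F² ⋊ SL(2, F)` with `|F| = 4`.

A *frame* is a triple of Moore generators of `A₅` together with a four-element basis of an elementary abelian
group on which they act by the formulas of the natural `SL(2, 4)`-module; two frames give isomorphic groups.
-/

set_option autoImplicit false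

namespace CfsgLib.Recog.SmallOrders

open Subgroup

universe u v

/-- Three Moore generators as a sequence. -/
def seqThree {G : Type*} (x a t : G) : ℕ → G := fun i => if i = 0 then x else if i = 1 then a else t

/-- Moore generators of `A₅` acting on four involutions as on the natural module. -/
structure Frame {G : Type*} [Group G] (x a t s₁ s₂ s₃ s₄ : G) : Prop where
  rels : AltPresentation.Rels (seqThree x a t) 3
  sq₁ : s₁ * s₁ = 1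
  sq₂ : s₂ * s₂ = 1
  sq₃ : s₃ * s₃ = 1
  sq₄ : s₄ * s₄ = 1
  c₁₂ : Commute s₁ s₂
  c₁₃ : Commute s₁ s₃
  c₁₄ : Commute s₁ s₄
  c₂₃ : Commute s₂ s₃
  c₂₄ : Commute s₂ s₄
  c₃₄ : Commute s₃ s₄
  x₁ : x * s₁ * x⁻¹ = s₂
  x₂ : x * s₂ * x⁻¹ = s₁ * s₂
  x₃ : x * s₃ * x⁻¹ = s₃ * s₄
  x₄ : x * s₄ * x⁻¹ = s₃
  a₁ : a * s₁ * a⁻¹ = s₁
  a₂ : a * s₂ * a⁻¹ = s₂
  a₃ : a * s₃ * a⁻¹ = s₃ * s₁
  a₄ : a * s₄ * a⁻¹ = s₄ * s₂
  t₁ : t * s₁ * t⁻¹ = s₃
  t₂ : t * s₂ * t⁻¹ = s₄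
  t₃ : t * s₃ * t⁻¹ = s₁
  t₄ : t * s₄ * t⁻¹ = s₂

variable {G : Type u} [Group G]

/-- The product with given exponents. -/
def word (s₁ s₂ s₃ s₄ : G) (i : ℕ × ℕ × ℕ × ℕ) : G := s₁ ^ i.1 * s₂ ^ i.2.1 * s₃ ^ i.2.2.1 * s₄ ^ i.2.2.2

theorem pow_mod_two {s : G} (h : s * s = 1) (n : ℕ) : s ^ n = s ^ (n % 2) :=
  pow_eq_pow_mod n (by rw [pow_two, h])

theorem exists_word {x a t s₁ s₂ s₃ s₄ : G} (F : Frame x a t s₁ s₂ s₃ s₄) {g : G}
    (hg : g ∈ closure ({s₁, s₂, s₃, s₄} : Set G)) : ∃ i : ℕ × ℕ × ℕ × ℕ, g = word s₁ s₂ s₃ s₄ i := by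
  induction hg using closure_induction with
  | mem y hy =>
    simp only [Set.mem_insert_iff, Set.mem_singleton_iff] at hy
    rcases hy with rfl | rfl | rfl | rfl
    · exact ⟨(1, 0, 0, 0), by simp [word]⟩
    · exact ⟨(0, 1, 0, 0), by simp [word]⟩
    · exact ⟨(0, 0, 1, 0), by simp [word]⟩
    · exact ⟨(0, 0, 0, 1), by simp [word]⟩
  | one => exact ⟨(0, 0, 0, 0), by simp [word]⟩
  | mul y z _ _ hy hz =>
    obtain ⟨⟨i, j, k, l⟩, rfl⟩ := hy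
    obtain ⟨⟨i', j', k', l'⟩, rfl⟩ := hz
    refine ⟨(i + i', j + j', k + k', l + l'), ?_⟩
    simp only [word, pow_add]
    have h1 : Commute (s₄ ^ l) (s₁ ^ i' * s₂ ^ j' * s₃ ^ k') :=
      ((F.c₁₄.symm.pow_pow l i').mul_right (F.c₂₄.symm.pow_pow l j')).mul_right (F.c₃₄.symm.pow_pow l k')
    have h2 : Commute (s₃ ^ k) (s₁ ^ i' * s₂ ^ j') :=
      (F.c₁₃.symm.pow_pow k i').mul_right (F.c₂₃.symm.pow_pow k j')
    have h3 : Commute (s₂ ^ j) (s₁ ^ i') := F.c₁₂.symm.pow_pow j i'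
    calc s₁ ^ i * s₂ ^ j * s₃ ^ k * s₄ ^ l * (s₁ ^ i' * s₂ ^ j' * s₃ ^ k' * s₄ ^ l')
        = s₁ ^ i * s₂ ^ j * s₃ ^ k * (s₄ ^ l * (s₁ ^ i' * s₂ ^ j' * s₃ ^ k')) * s₄ ^ l' := by group
      _ = s₁ ^ i * s₂ ^ j * (s₃ ^ k * (s₁ ^ i' * s₂ ^ j')) * s₃ ^ k' * (s₄ ^ l * s₄ ^ l') := by
        rw [h1.eq]; group
      _ = s₁ ^ i * (s₂ ^ j * s₁ ^ i') * s₂ ^ j' * (s₃ ^ k * s₃ ^ k') * (s₄ ^ l * s₄ ^ l') := by
        rw [h2.eq]; group
      _ = s₁ ^ i * s₁ ^ i' * (s₂ ^ j * s₂ ^ j') * (s₃ ^ k * s₃ ^ k') * (s₄ ^ l * s₄ ^ l') := by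
        rw [h3.eq]; group
  | inv y _ hy =>
    obtain ⟨⟨i, j, k, l⟩, rfl⟩ := hy
    refine ⟨(i, j, k, l), ?_⟩
    have hinv : ∀ {s : G}, s * s = 1 → ∀ n : ℕ, (s ^ n)⁻¹ = s ^ n := fun h n =>
      inv_eq_of_mul_eq_one_right (by rw [← (Commute.refl _).mul_pow, h, one_pow])
    simp only [word, mul_inv_rev, hinv F.sq₁, hinv F.sq₂, hinv F.sq₃, hinv F.sq₄]
    have h1 : Commute (s₄ ^ l) (s₁ ^ i * s₂ ^ j * s₃ ^ k) :=
      ((F.c₁₄.symm.pow_pow l i).mul_right (F.c₂₄.symm.pow_pow l j)).mul_right (F.c₃₄.symm.pow_pow l k)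
    have h2 : Commute (s₃ ^ k) (s₁ ^ i * s₂ ^ j) := (F.c₁₃.symm.pow_pow k i).mul_right (F.c₂₃.symm.pow_pow k j)
    rw [← h1.eq, ← h2.eq, ← (F.c₁₂.symm.pow_pow j i).eq]

theorem normalizes_span {x a t s₁ s₂ s₃ s₄ : G} [Finite G] (F : Frame x a t s₁ s₂ s₃ s₄) :
    AltPresentation.gen (seqThree x a t) 3 ≤ normalizer (closure ({s₁, s₂, s₃, s₄} : Set G) : Set G) := by
  set S := closure ({s₁, s₂, s₃, s₄} : Set G) with hS
  have m₁ : s₁ ∈ S := subset_closure (by simp)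
  have m₂ : s₂ ∈ S := subset_closure (by simp)
  have m₃ : s₃ ∈ S := subset_closure (by simp)
  have m₄ : s₄ ∈ S := subset_closure (by simp)
  rw [AltPresentation.gen, closure_le]
  rintro g ⟨i, hi, rfl⟩
  have key : ∀ g : G, g * s₁ * g⁻¹ ∈ S → g * s₂ * g⁻¹ ∈ S → g * s₃ * g⁻¹ ∈ S → g * s₄ * g⁻¹ ∈ S →
      g ∈ normalizer (S : Set G) := by
    intro g h₁ h₂ h₃ h₄
    have hle : S.map (MulAut.conj g).toMonoidHom ≤ S := by
      rw [hS, MonoidHom.map_closure, closure_le]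
      rintro _ ⟨y, hy, rfl⟩
      simp only [Set.mem_insert_iff, Set.mem_singleton_iff] at hy
      rcases hy with rfl | rfl | rfl | rfl <;> assumption
    have heq := eq_of_le_of_card_ge hle
      (card_map_of_injective (f := (MulAut.conj g).toMonoidHom) (MulAut.conj g).injective).ge
    rw [mem_normalizer_iff]
    intro y
    refine ⟨fun hy => hle ⟨y, hy, rfl⟩, fun hy => ?_⟩
    rw [← heq] at hy
    obtain ⟨y', hy', he⟩ := hy
    exact (MulAut.conj g).injective he ▸ hy'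
  interval_cases i
  · exact key x (F.x₁ ▸ m₂) (F.x₂ ▸ mul_mem m₁ m₂) (F.x₃ ▸ mul_mem m₃ m₄) (F.x₄ ▸ m₃)
  · exact key a (F.a₁.symm ▸ m₁) (F.a₂.symm ▸ m₂) (F.a₃ ▸ mul_mem m₃ m₁) (F.a₄ ▸ mul_mem m₄ m₂)
  · exact key t (F.t₁ ▸ m₃) (F.t₂ ▸ m₄) (F.t₃ ▸ m₁) (F.t₄ ▸ m₂)

theorem Frame.prod {T : Type v} [Group T] {x a t s₁ s₂ s₃ s₄ : G} {x' a' t' r₁ r₂ r₃ r₄ : T}
    (F : Frame x a t s₁ s₂ s₃ s₄) (F' : Frame x' a' t' r₁ r₂ r₃ r₄) :
    Frame (x, x') (a, a') (t, t') (s₁, r₁) (s₂, r₂) (s₃, r₃) (s₄, r₄) := by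
  have hseq : ∀ i, seqThree (x, x') (a, a') (t, t') i = (seqThree x a t i, seqThree x' a' t' i) := by
    intro i; unfold seqThree; split_ifs <;> rfl
  refine ⟨⟨fun h => ?_, fun i h h' => ?_, fun i h => ?_, fun i j h h' => ?_⟩, ?_, ?_, ?_, ?_, ?_, ?_, ?_, ?_, ?_, ?_,
    ?_, ?_, ?_, ?_, ?_, ?_, ?_, ?_, ?_, ?_, ?_, ?_⟩
  · rw [hseq]; exact Prod.ext (F.rels.cube h) (F'.rels.cube h)
  · rw [hseq]; exact Prod.ext (F.rels.invol i h h') (F'.rels.invol i h h')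
  · rw [hseq, hseq]; exact Prod.ext (F.rels.braid i h) (F'.rels.braid i h)
  · rw [hseq, hseq]; exact Prod.ext (F.rels.far i j h h') (F'.rels.far i j h h')
  all_goals first
    | exact Prod.ext F.sq₁ F'.sq₁ | exact Prod.ext F.sq₂ F'.sq₂ | exact Prod.ext F.sq₃ F'.sq₃
    | exact Prod.ext F.sq₄ F'.sq₄ | exact Prod.ext F.c₁₂ F'.c₁₂ | exact Prod.ext F.c₁₃ F'.c₁₃
    | exact Prod.ext F.c₁₄ F'.c₁₄ | exact Prod.ext F.c₂₃ F'.c₂₃ | exact Prod.ext F.c₂₄ F'.c₂₄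
    | exact Prod.ext F.c₃₄ F'.c₃₄ | exact Prod.ext F.x₁ F'.x₁ | exact Prod.ext F.x₂ F'.x₂
    | exact Prod.ext F.x₃ F'.x₃ | exact Prod.ext F.x₄ F'.x₄ | exact Prod.ext F.a₁ F'.a₁
    | exact Prod.ext F.a₂ F'.a₂ | exact Prod.ext F.a₃ F'.a₃ | exact Prod.ext F.a₄ F'.a₄
    | exact Prod.ext F.t₁ F'.t₁ | exact Prod.ext F.t₂ F'.t₂ | exact Prod.ext F.t₃ F'.t₃
    | exact Prod.ext F.t₄ F'.t₄

theorem closure_image {H : Type*} [Group H] (f : G →* H) (x a t s₁ s₂ s₃ s₄ : G) :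
    (AltPresentation.gen (seqThree x a t) 3).map f = AltPresentation.gen (seqThree (f x) (f a) (f t)) 3 ∧
      (closure ({s₁, s₂, s₃, s₄} : Set G)).map f = closure {f s₁, f s₂, f s₃, f s₄} := by
  refine ⟨?_, by rw [MonoidHom.map_closure]; simp [Set.image_insert_eq]⟩
  rw [AltPresentation.gen, AltPresentation.gen, MonoidHom.map_closure]
  congr 1
  ext y
  have hseq : ∀ i, seqThree (f x) (f a) (f t) i = f (seqThree x a t i) := by
    intro i; unfold seqThree; split_ifs <;> rfl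
  simp [hseq]

/-- A group generated by a frame with `A₅` complement is isomorphic to any group of order at most 960 with an
independent frame. -/
theorem nonempty_equiv_of_frames [Finite G] {T : Type v} [Group T] [Finite T]
    {x a t s₁ s₂ s₃ s₄ : G} {x' a' t' r₁ r₂ r₃ r₄ : T}
    (F : Frame x a t s₁ s₂ s₃ s₄) (F' : Frame x' a' t' r₁ r₂ r₃ r₄)
    (e : AltPresentation.gen (seqThree x a t) 3 ≃* alternatingGroup (Fin 5))
    (hgen : AltPresentation.gen (seqThree x a t) 3 ⊔ closure ({s₁, s₂, s₃, s₄} : Set G) = ⊤)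
    (hdis : AltPresentation.gen (seqThree x a t) 3 ⊓ closure ({s₁, s₂, s₃, s₄} : Set G) = ⊥)
    (hind : ∀ i, word s₁ s₂ s₃ s₄ i = 1 → Even i.1 ∧ Even i.2.1 ∧ Even i.2.2.1 ∧ Even i.2.2.2)
    (hdis' : AltPresentation.gen (seqThree x' a' t') 3 ⊓ closure ({r₁, r₂, r₃, r₄} : Set T) = ⊥)
    (hind' : ∀ i, word r₁ r₂ r₃ r₄ i = 1 → Even i.1 ∧ Even i.2.1 ∧ Even i.2.2.1 ∧ Even i.2.2.2)
    (hx' : x' ≠ 1) (hT : Nat.card T ≤ 960) : Nonempty (G ≃* T) := by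
  have FD := F.prod F'
  set H := AltPresentation.gen (seqThree (x, x') (a, a') (t, t')) 3 with hH
  set S := closure ({(s₁, r₁), (s₂, r₂), (s₃, r₃), (s₄, r₄)} : Set (G × T)) with hS
  set D := H ⊔ S with hD
  have hnorm : H ≤ normalizer (S : Set (G × T)) := normalizes_span FD
  obtain ⟨hH1, hS1⟩ := closure_image (MonoidHom.fst G T) (x, x') (a, a') (t, t') (s₁, r₁) (s₂, r₂) (s₃, r₃) (s₄, r₄)
  obtain ⟨hH2, hS2⟩ := closure_image (MonoidHom.snd G T) (x, x') (a, a') (t, t') (s₁, r₁) (s₂, r₂) (s₃, r₃) (s₄, r₄)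
  simp only [MonoidHom.coe_fst, MonoidHom.coe_snd] at hH1 hS1 hH2 hS2
  rw [← hH] at hH1 hH2
  rw [← hS] at hS1 hS2
  have hHc : Nat.card H ≤ 60 := by
    obtain ⟨-, h⟩ := AltPresentation.card_gen FD.rels 3 le_rfl
    rw [show Nat.factorial (3 + 2) = 120 from rfl] at h
    rw [hH]
    omega
  have hA : Nat.card (AltPresentation.gen (seqThree x a t) 3) = 60 := (Nat.card_congr e.toEquiv).trans (by rw [nat_card_alternatingGroup, Nat.card_fin]; rfl)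
  -- the projection of `H` to `G` is injective
  let p : H →* AltPresentation.gen (seqThree x a t) 3 :=
    ((MonoidHom.fst G T).comp H.subtype).codRestrict _ fun h => hH1 ▸ ⟨h, h.2, rfl⟩
  have hpsurj : Function.Surjective p := by
    intro g
    obtain ⟨h, hh, he⟩ := (hH1.symm ▸ g.2 : (g : G) ∈ H.map (MonoidHom.fst G T))
    exact ⟨⟨h, hh⟩, Subtype.ext he⟩
  have hpinj : Function.Injective p :=
    ((Nat.bijective_iff_surjective_and_card p).2 ⟨hpsurj,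
      le_antisymm (hA.symm ▸ hHc) (Nat.card_le_card_of_surjective p hpsurj)⟩).1
  have hP1 : ∀ h ∈ H, (h : G × T).1 = 1 → h = 1 := fun h hh he =>
    congrArg Subtype.val (hpinj (a₁ := (⟨h, hh⟩ : H)) (a₂ := 1) (Subtype.ext he))
  -- and to `T`
  have hP2 : ∀ h ∈ H, (h : G × T).2 = 1 → h = 1 := by
    let q : H →* T := (MonoidHom.snd G T).comp H.subtype
    haveI : IsSimpleGroup H := by
      have e' : H ≃* alternatingGroup (Fin 5) := (MulEquiv.ofBijective p ⟨hpinj, hpsurj⟩).trans e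
      exact e'.isSimpleGroup_congr.2 inferInstance
    rcases IsSimpleGroup.eq_bot_or_eq_top_of_normal q.ker inferInstance with hq | hq
    · intro h hh he
      have hk : (⟨h, hh⟩ : H) ∈ q.ker := MonoidHom.mem_ker.2 he
      rw [hq, mem_bot] at hk
      exact congrArg Subtype.val hk
    · exfalso
      have hxH : (x, x') ∈ H := AltPresentation.mem_gen (x := seqThree (x, x') (a, a') (t, t')) (i := 0) (by norm_num)
      exact hx' (MonoidHom.mem_ker.1 (hq ▸ mem_top (⟨_, hxH⟩ : H) : (⟨_, hxH⟩ : H) ∈ q.ker))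
  have hS1' : ∀ r ∈ S, (r : G × T).1 = 1 → r = 1 := by
    intro r hr he
    obtain ⟨⟨i, j, k, l⟩, rfl⟩ := exists_word FD hr
    obtain ⟨h₁, h₂, h₃, h₄⟩ := hind ⟨i, j, k, l⟩ (by simpa [word] using he)
    simp only [word]
    rw [pow_mod_two FD.sq₁, pow_mod_two FD.sq₂, pow_mod_two FD.sq₃, pow_mod_two FD.sq₄, Nat.even_iff.1 h₁,
      Nat.even_iff.1 h₂, Nat.even_iff.1 h₃, Nat.even_iff.1 h₄]
    simp
  have hS2' : ∀ r ∈ S, (r : G × T).2 = 1 → r = 1 := by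
    intro r hr he
    obtain ⟨⟨i, j, k, l⟩, rfl⟩ := exists_word FD hr
    obtain ⟨h₁, h₂, h₃, h₄⟩ := hind' ⟨i, j, k, l⟩ (by simpa [word] using he)
    simp only [word]
    rw [pow_mod_two FD.sq₁, pow_mod_two FD.sq₂, pow_mod_two FD.sq₃, pow_mod_two FD.sq₄, Nat.even_iff.1 h₁,
      Nat.even_iff.1 h₂, Nat.even_iff.1 h₃, Nat.even_iff.1 h₄]
    simp
  have hDmem : ∀ d ∈ D, ∃ h ∈ H, ∃ r ∈ S, d = h * r := by
    intro d hd
    have hd' : d ∈ ((H ⊔ S : Subgroup (G × T)) : Set (G × T)) := hd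
    rw [coe_mul_of_left_le_normalizer_right H S hnorm] at hd'
    obtain ⟨h, hh, r, hr, rfl⟩ := hd'
    exact ⟨h, hh, r, hr, rfl⟩
  let f₁ : D →* G := (MonoidHom.fst G T).comp D.subtype
  let f₂ : D →* T := (MonoidHom.snd G T).comp D.subtype
  have hf₁s : Function.Surjective f₁ := by
    intro g
    have hg : g ∈ D.map (MonoidHom.fst G T) := by
      rw [hD, Subgroup.map_sup, hH1, hS1, hgen]
      exact mem_top g
    obtain ⟨d, hd, rfl⟩ := hg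
    exact ⟨⟨d, hd⟩, rfl⟩
  have hf₁i : Function.Injective f₁ := by
    rw [injective_iff_map_eq_one]
    rintro ⟨d, hd⟩ he
    obtain ⟨h, hh, r, hr, rfl⟩ := hDmem d hd
    have he' : h.1 * r.1 = 1 := he
    have hm : h.1 ∈ AltPresentation.gen (seqThree x a t) 3 ⊓ closure ({s₁, s₂, s₃, s₄} : Set G) :=
      mem_inf.2 ⟨hH1 ▸ ⟨h, hh, rfl⟩, eq_inv_of_mul_eq_one_left he' ▸ inv_mem (hS1 ▸ ⟨r, hr, rfl⟩)⟩
    rw [hdis, mem_bot] at hm
    rw [hm, one_mul] at he'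
    exact Subtype.ext (show h * r = 1 by rw [hP1 h hh hm, hS1' r hr he', one_mul])
  have hf₂i : Function.Injective f₂ := by
    rw [injective_iff_map_eq_one]
    rintro ⟨d, hd⟩ he
    obtain ⟨h, hh, r, hr, rfl⟩ := hDmem d hd
    have he' : h.2 * r.2 = 1 := he
    have hm : h.2 ∈ AltPresentation.gen (seqThree x' a' t') 3 ⊓ closure ({r₁, r₂, r₃, r₄} : Set T) :=
      mem_inf.2 ⟨hH2 ▸ ⟨h, hh, rfl⟩, eq_inv_of_mul_eq_one_left he' ▸ inv_mem (hS2 ▸ ⟨r, hr, rfl⟩)⟩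
    rw [hdis', mem_bot] at hm
    rw [hm, one_mul] at he'
    exact Subtype.ext (show h * r = 1 by rw [hP2 h hh hm, hS2' r hr he', one_mul])
  have hGc : 960 ≤ Nat.card G := by
    set S₀ := closure ({s₁, s₂, s₃, s₄} : Set G) with hS₀
    have h16 : 16 ≤ Nat.card S₀ := by
      have m₁ : s₁ ∈ S₀ := subset_closure (by simp)
      have m₂ : s₂ ∈ S₀ := subset_closure (by simp)
      have m₃ : s₃ ∈ S₀ := subset_closure (by simp)
      have m₄ : s₄ ∈ S₀ := subset_closure (by simp)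
      let f : Fin 2 × Fin 2 × Fin 2 × Fin 2 → S₀ := fun i =>
        ⟨word s₁ s₂ s₃ s₄ (i.1, i.2.1, i.2.2.1, i.2.2.2),
          mul_mem (mul_mem (mul_mem (pow_mem m₁ _) (pow_mem m₂ _)) (pow_mem m₃ _)) (pow_mem m₄ _)⟩
      have hf : Function.Injective f := by
        rintro ⟨i, j, k, l⟩ ⟨i', j', k', l'⟩ h
        have h' : word s₁ s₂ s₃ s₄ ((i : ℕ), (j : ℕ), (k : ℕ), (l : ℕ)) =
            word s₁ s₂ s₃ s₄ ((i' : ℕ), (j' : ℕ), (k' : ℕ), (l' : ℕ)) := congrArg Subtype.val h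
        have h0 : word s₁ s₂ s₃ s₄ ((i : ℕ) + i', (j : ℕ) + j', (k : ℕ) + k', (l : ℕ) + l') = 1 := by
          have hw : word s₁ s₂ s₃ s₄ ((i : ℕ), (j : ℕ), (k : ℕ), (l : ℕ)) *
              word s₁ s₂ s₃ s₄ ((i' : ℕ), (j' : ℕ), (k' : ℕ), (l' : ℕ)) =
              word s₁ s₂ s₃ s₄ ((i : ℕ) + i', (j : ℕ) + j', (k : ℕ) + k', (l : ℕ) + l') := by
            simp only [word, pow_add]
            have h1 : Commute (s₄ ^ (l : ℕ)) (s₁ ^ (i' : ℕ) * s₂ ^ (j' : ℕ) * s₃ ^ (k' : ℕ)) :=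
              ((F.c₁₄.symm.pow_pow _ _).mul_right (F.c₂₄.symm.pow_pow _ _)).mul_right (F.c₃₄.symm.pow_pow _ _)
            have h2 : Commute (s₃ ^ (k : ℕ)) (s₁ ^ (i' : ℕ) * s₂ ^ (j' : ℕ)) :=
              (F.c₁₃.symm.pow_pow _ _).mul_right (F.c₂₃.symm.pow_pow _ _)
            have h3 : Commute (s₂ ^ (j : ℕ)) (s₁ ^ (i' : ℕ)) := F.c₁₂.symm.pow_pow _ _
            calc _ = s₁ ^ (i : ℕ) * s₂ ^ (j : ℕ) * s₃ ^ (k : ℕ) * (s₄ ^ (l : ℕ) * (s₁ ^ (i' : ℕ) * s₂ ^ (j' : ℕ) * s₃ ^ (k' : ℕ))) * s₄ ^ (l' : ℕ) := by group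
              _ = s₁ ^ (i : ℕ) * s₂ ^ (j : ℕ) * (s₃ ^ (k : ℕ) * (s₁ ^ (i' : ℕ) * s₂ ^ (j' : ℕ))) * s₃ ^ (k' : ℕ) * (s₄ ^ (l : ℕ) * s₄ ^ (l' : ℕ)) := by
                rw [h1.eq]; group
              _ = s₁ ^ (i : ℕ) * (s₂ ^ (j : ℕ) * s₁ ^ (i' : ℕ)) * s₂ ^ (j' : ℕ) * (s₃ ^ (k : ℕ) * s₃ ^ (k' : ℕ)) * (s₄ ^ (l : ℕ) * s₄ ^ (l' : ℕ)) := by
                rw [h2.eq]; group
              _ = _ := by rw [h3.eq]; group
          rw [← hw, h']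
          have hsq : ∀ y ∈ S₀, y * y = 1 := fun y hy => by
            obtain ⟨⟨i, j, k, l⟩, rfl⟩ := exists_word F hy
            have hinv : ∀ {s : G}, s * s = 1 → ∀ n : ℕ, s ^ n * s ^ n = 1 := fun hs n => by
              rw [← (Commute.refl _).mul_pow, hs, one_pow]
            have h1 : Commute (s₁ ^ i * s₂ ^ j * s₃ ^ k) (s₄ ^ l) :=
              (((F.c₁₄.pow_pow i l)).mul_left (F.c₂₄.pow_pow j l)).mul_left (F.c₃₄.pow_pow k l)
            have h2 : Commute (s₁ ^ i * s₂ ^ j) (s₃ ^ k) := (F.c₁₃.pow_pow i k).mul_left (F.c₂₃.pow_pow j k)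
            have h3 : Commute (s₁ ^ i) (s₂ ^ j) := F.c₁₂.pow_pow i j
            simp only [word]
            rw [← pow_two, h1.mul_pow, h2.mul_pow, h3.mul_pow, pow_two, pow_two, pow_two, pow_two, hinv F.sq₁,
              hinv F.sq₂, hinv F.sq₃, hinv F.sq₄]
            simp
          exact hsq _ (f (i', j', k', l')).2
        obtain ⟨h₁, h₂, h₃, h₄⟩ := hind _ h0
        rw [Nat.even_iff] at h₁ h₂ h₃ h₄
        refine Prod.ext ?_ (Prod.ext ?_ (Prod.ext ?_ ?_)) <;> refine Fin.ext ?_ <;> simp only at h₁ h₂ h₃ h₄ ⊢ <;>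
          omega
      have := Nat.card_le_card_of_injective f hf
      simpa using this
    have := CIT.card_mul_card_le _ _ hdis
    rw [hA] at this
    nlinarith
  have hbij₁ : Function.Bijective f₁ := ⟨hf₁i, hf₁s⟩
  have hcard : Nat.card D = Nat.card G := Nat.card_congr (Equiv.ofBijective f₁ hbij₁)
  have hbij₂ : Function.Bijective f₂ := (Nat.bijective_iff_injective_and_card f₂).2
    ⟨hf₂i, le_antisymm (Nat.card_le_card_of_injective f₂ hf₂i) (by omega)⟩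
  exact ⟨(MulEquiv.ofBijective f₁ hbij₁).symm.trans (MulEquiv.ofBijective f₂ hbij₂)⟩

end CfsgLib.Recog.SmallOrders
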