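import Cfsg.Agent.Lib.Recog.SmallOrders.CriticalFrames

/-!
Owner: helper3. The affine group `F² ⋊ SL(2, F)`, `|F| = 4`, carries a frame.
-/

set_option autoImplicit false

namespace CfsgLib.Recog.SmallOrders

open Subgroup Matrix
open scoped MatrixGroups

variable (F : Type) [Field F] [Fintype F]

/-- The affine group of the statement. -/
abbrev affGroup : Subgroup (Matrix.SpecialLinearGroup (Fin 3) F) :=
  Subgroup.closure {M : Matrix.SpecialLinearGroup (Fin 3) F |
    (M : Matrix (Fin 3) (Fin 3) F) 2 0 = 0 ∧ (M : Matrix (Fin 3) (Fin 3) F) 2 1 = 0 ∧ (M : Matrix (Fin 3) (Fin 3) F) 2 2 = 1}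

/-- The subgroup of matrices with last row `(0, 0, 1)`. -/
def lastRow : Subgroup (Matrix.SpecialLinearGroup (Fin 3) F) where
  carrier := {M | (M : Matrix (Fin 3) (Fin 3) F) 2 0 = 0 ∧ (M : Matrix (Fin 3) (Fin 3) F) 2 1 = 0 ∧
    (M : Matrix (Fin 3) (Fin 3) F) 2 2 = 1}
  one_mem' := by simp
  mul_mem' := by
    rintro a b ⟨a0, a1, a2⟩ ⟨b0, b1, b2⟩
    refine ⟨?_, ?_, ?_⟩ <;> simp [Matrix.SpecialLinearGroup.coe_mul, Matrix.mul_apply, Fin.sum_univ_three, *]
  inv_mem' := by
    intro a ha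
    obtain ⟨a0, a1, a2⟩ := ha
    have h := congrArg (fun M : Matrix.SpecialLinearGroup (Fin 3) F => (M : Matrix (Fin 3) (Fin 3) F))
      (mul_inv_cancel a)
    have e : ∀ j, (a : Matrix (Fin 3) (Fin 3) F) 2 2 * ((a⁻¹ : Matrix.SpecialLinearGroup (Fin 3) F) : Matrix (Fin 3) (Fin 3) F) 2 j =
        (1 : Matrix (Fin 3) (Fin 3) F) 2 j := by
      intro j
      have := congrArg (fun M : Matrix (Fin 3) (Fin 3) F => M 2 j) h
      simp only [Matrix.SpecialLinearGroup.coe_mul, Matrix.mul_apply, Fin.sum_univ_three, a0, a1, zero_mul, zero_add,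
        Matrix.SpecialLinearGroup.coe_one] at this
      exact this
    simp only [a2, one_mul] at e
    exact ⟨(e 0).trans (by simp), (e 1).trans (by simp), (e 2).trans (by simp)⟩

theorem affGroup_eq : affGroup F = lastRow F :=
  le_antisymm ((closure_le _).2 fun _ h => h) fun _ h => subset_closure h

variable {F}

/-- The affine element with linear part `(p, q; r, w)` and translation `(u, v)`. -/
def aff (p q r w u v : F) (h : p * w - q * r = 1) : lastRow F :=
  ⟨⟨!![p, q, u; r, w, v; 0, 0, 1], by simp [Matrix.det_fin_three, h]⟩, by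
    refine ⟨?_, ?_, ?_⟩ <;> simp⟩

theorem aff_mul (p q r w u v : F) (h : p * w - q * r = 1) (p' q' r' w' u' v' : F) (h' : p' * w' - q' * r' = 1) :
    aff p q r w u v h * aff p' q' r' w' u' v' h' =
      aff (p * p' + q * r') (p * q' + q * w') (r * p' + w * r') (r * q' + w * w') (p * u' + q * v' + u)
        (r * u' + w * v' + v) (by linear_combination (p' * w' - q' * r') * h + h') := by
  refine Subtype.ext (Subtype.ext ?_)
  show (!![p, q, u; r, w, v; 0, 0, 1] : Matrix (Fin 3) (Fin 3) F) * !![p', q', u'; r', w', v'; 0, 0, 1] =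
    !![p * p' + q * r', p * q' + q * w', p * u' + q * v' + u;
      r * p' + w * r', r * q' + w * w', r * u' + w * v' + v; 0, 0, 1]
  ext i j
  fin_cases i <;> fin_cases j <;>
    simp [MulMemClass.mk_mul_mk, Subgroup.coe_mul, Matrix.SpecialLinearGroup.coe_mul, Matrix.mul_apply, Fin.sum_univ_three, Matrix.vecMul, Matrix.vecHead, Matrix.vecTail, dotProduct]

theorem aff_one : aff (1 : F) 0 0 1 0 0 (by ring) = 1 := by
  refine Subtype.ext (Subtype.ext ?_)
  ext i j
  fin_cases i <;> fin_cases j <;> simp [aff]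

theorem aff_congr {p q r w u v : F} {h : p * w - q * r = 1} {p' q' r' w' u' v' : F} {h' : p' * w' - q' * r' = 1}
    (e₁ : p = p') (e₂ : q = q') (e₃ : r = r') (e₄ : w = w') (e₅ : u = u') (e₆ : v = v') :
    aff p q r w u v h = aff p' q' r' w' u' v' h' := by
  subst e₁ e₂ e₃ e₄ e₅ e₆; rfl

/-- Translations. -/
def tr (u v : F) : lastRow F := aff 1 0 0 1 u v (by ring)

theorem tr_mul (u v u' v' : F) : tr u v * tr u' v' = tr (u + u') (v + v') := by
  rw [tr, tr, aff_mul, tr]
  exact aff_congr (by ring) (by ring) (by ring) (by ring) (by ring) (by ring)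

theorem tr_pow (u v : F) (n : ℕ) : tr u v ^ n = tr ((n : F) * u) ((n : F) * v) := by
  induction n with
  | zero =>
    rw [pow_zero, ← aff_one, tr]
    exact aff_congr rfl rfl rfl rfl (by simp) (by simp)
  | succ n ih =>
    rw [pow_succ, ih, tr_mul]
    exact aff_congr rfl rfl rfl rfl (by push_cast; ring) (by push_cast; ring)

/-- The linear elements form a subgroup meeting the translations trivially. -/
def linear : Subgroup (lastRow F) where
  carrier := {M | ((M : Matrix.SpecialLinearGroup (Fin 3) F) : Matrix (Fin 3) (Fin 3) F) 0 2 = 0 ∧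
    ((M : Matrix.SpecialLinearGroup (Fin 3) F) : Matrix (Fin 3) (Fin 3) F) 1 2 = 0}
  one_mem' := by simp
  mul_mem' := by
    rintro a b ⟨a0, a1⟩ ⟨b0, b1⟩
    obtain ⟨_, _, hb2⟩ := b.2
    refine ⟨?_, ?_⟩ <;> simp [Matrix.SpecialLinearGroup.coe_mul, Matrix.mul_apply, Fin.sum_univ_three, *]
  inv_mem' := by
    intro a ha
    obtain ⟨a0, a1⟩ := ha
    obtain ⟨-, -, i2⟩ := (a⁻¹).2
    obtain ⟨c0, c1, c2⟩ := a.2
    have h := congrArg (fun M : lastRow F => ((M : Matrix.SpecialLinearGroup (Fin 3) F) : Matrix (Fin 3) (Fin 3) F))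
      (inv_mul_cancel a)
    have e : ∀ i, ((a⁻¹ : lastRow F) : Matrix.SpecialLinearGroup (Fin 3) F).1 i 2 = (1 : Matrix (Fin 3) (Fin 3) F) i 2 := by
      intro i
      have := congrArg (fun M : Matrix (Fin 3) (Fin 3) F => M i 2) h
      simp only [Subgroup.coe_mul, Matrix.SpecialLinearGroup.coe_mul, Matrix.mul_apply, Fin.sum_univ_three, a0, a1,
        c2, mul_zero, mul_one, zero_add, Subgroup.coe_one, Matrix.SpecialLinearGroup.coe_one] at this
      exact this
    exact ⟨(e 0).trans (by simp), (e 1).trans (by simp)⟩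

set_option maxHeartbeats 1600000 in
theorem exists_frame_aff (hF : Fintype.card F = 4) :
    ∃ x a t r₁ r₂ r₃ r₄ : lastRow F, Frame x a t r₁ r₂ r₃ r₄ ∧ x ≠ 1 ∧
      AltPresentation.gen (seqThree x a t) 3 ⊓ closure ({r₁, r₂, r₃, r₄} : Set (lastRow F)) = ⊥ ∧
      (∀ i, word r₁ r₂ r₃ r₄ i = 1 → Even i.1 ∧ Even i.2.1 ∧ Even i.2.2.1 ∧ Even i.2.2.2) ∧
      Nat.card (lastRow F) ≤ 960 := by
  classical
  haveI hchar : CharP F 2 := by
    obtain ⟨p, hp⟩ := CharP.exists F
    haveI := hp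
    obtain ⟨n, hpp, hn⟩ := FiniteField.card F p
    rw [hF] at hn
    have : p ∣ 2 ^ 2 := (show (2 : ℕ) ^ 2 = p ^ (n : ℕ) from hn) ▸ dvd_pow_self p n.pos.ne'
    obtain rfl : p = 2 := (Nat.prime_dvd_prime_iff_eq hpp Nat.prime_two).1 (hpp.dvd_of_dvd_pow this)
    exact hp
  have h2 : ∀ z : F, z + z = 0 := fun z => CharTwo.add_self_eq_zero z
  have hneg : ∀ z : F, -z = z := fun z => CharTwo.neg_eq z
  obtain ⟨ω, hω0, hω1⟩ : ∃ ω : F, ω ≠ 0 ∧ ω ≠ 1 := by
    by_contra h
    push Not at h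
    have h1 : (Finset.univ : Finset F) ⊆ {0, 1} := fun z _ => by
      by_cases hz : z = 0 <;> simp [hz, h z]
    have := Finset.card_le_card h1
    rw [Finset.card_univ, hF] at this
    have h3 := this.trans Finset.card_le_two
    omega
  have hω3 : ω ^ 3 = 1 := by
    have := FiniteField.pow_card_sub_one_eq_one ω hω0
    rwa [hF] at this
  have hω2 : ω * ω = ω + 1 := by
    have h : (ω - 1) * (ω * ω + ω + 1) = 0 := by linear_combination hω3
    have h' := (mul_eq_zero.1 h).resolve_left (sub_ne_zero.2 hω1)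
    linear_combination h' - h2 ω - h2 (1 : F)
  have hd : ω * (ω + 1) = 1 := by linear_combination hω2 + h2 ω
  have htwo : (2 : F) = 0 := CharTwo.two_eq_zero
  set x := aff ω 0 0 (ω + 1) 0 0 (by linear_combination hd) with hxdef
  set a := aff (1 : F) 1 0 1 0 0 (by ring) with hadef
  set t := aff (0 : F) 1 1 0 0 0 (by linear_combination hneg (1 : F)) with htdef
  have hconj : ∀ (g : lastRow F) (r r' : lastRow F), g * r = r' * g → g * r * g⁻¹ = r' := fun g r r' h =>
    mul_inv_eq_iff_eq_mul.2 h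
  refine ⟨x, a, t, tr 1 0, tr ω 0, tr 0 1, tr 0 ω, ⟨⟨fun _ => ?_, ?_, ?_, ?_⟩, ?_, ?_, ?_, ?_, ?_, ?_, ?_, ?_, ?_, ?_,
    ?_, ?_, ?_, ?_, ?_, ?_, ?_, ?_, ?_, ?_, ?_, ?_⟩, ?_, ?_, ?_, ?_⟩
  · show x * x * x = 1
    rw [hxdef, aff_mul, aff_mul, ← aff_one]
    refine aff_congr ?_ ?_ ?_ ?_ ?_ ?_ <;> grind
  · intro i h1 h3
    interval_cases i
    · show a * a = 1
      rw [hadef, aff_mul, ← aff_one]
      refine aff_congr ?_ ?_ ?_ ?_ ?_ ?_ <;> grind
    · show t * t = 1
      rw [htdef, aff_mul, ← aff_one]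
      refine aff_congr ?_ ?_ ?_ ?_ ?_ ?_ <;> grind
  · intro i h
    rcases Nat.lt_or_ge i 1 with hi | hi
    · obtain rfl : i = 0 := by omega
      show x * a * (x * a) * (x * a) = 1
      rw [hxdef, hadef, aff_mul, aff_mul, aff_mul, ← aff_one]
      refine aff_congr ?_ ?_ ?_ ?_ ?_ ?_ <;> grind
    · obtain rfl : i = 1 := by omega
      show a * t * (a * t) * (a * t) = 1
      rw [hadef, htdef, aff_mul, aff_mul, aff_mul, ← aff_one]
      refine aff_congr ?_ ?_ ?_ ?_ ?_ ?_ <;> grind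
  · intro i j hij hj
    obtain rfl : i = 0 := by omega
    obtain rfl : j = 2 := by omega
    show x * t * (x * t) = 1
    rw [hxdef, htdef, aff_mul, aff_mul, ← aff_one]
    refine aff_congr ?_ ?_ ?_ ?_ ?_ ?_ <;> grind
  · rw [tr_mul, ← aff_one, tr]
    refine aff_congr rfl rfl rfl rfl ?_ ?_ <;> grind
  · rw [tr_mul, ← aff_one, tr]
    refine aff_congr rfl rfl rfl rfl ?_ ?_ <;> grind
  · rw [tr_mul, ← aff_one, tr]
    refine aff_congr rfl rfl rfl rfl ?_ ?_ <;> grind
  · rw [tr_mul, ← aff_one, tr]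
    refine aff_congr rfl rfl rfl rfl ?_ ?_ <;> grind
  · show _ * _ = _ * _
    rw [tr_mul, tr_mul, tr]
    refine aff_congr rfl rfl rfl rfl ?_ ?_ <;> grind
  · show _ * _ = _ * _
    rw [tr_mul, tr_mul, tr]
    refine aff_congr rfl rfl rfl rfl ?_ ?_ <;> grind
  · show _ * _ = _ * _
    rw [tr_mul, tr_mul, tr]
    refine aff_congr rfl rfl rfl rfl ?_ ?_ <;> grind
  · show _ * _ = _ * _
    rw [tr_mul, tr_mul, tr]
    refine aff_congr rfl rfl rfl rfl ?_ ?_ <;> grind
  · show _ * _ = _ * _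
    rw [tr_mul, tr_mul, tr]
    refine aff_congr rfl rfl rfl rfl ?_ ?_ <;> grind
  · show _ * _ = _ * _
    rw [tr_mul, tr_mul, tr]
    refine aff_congr rfl rfl rfl rfl ?_ ?_ <;> grind
  · refine hconj _ _ _ ?_
    simp only [hxdef, hadef, htdef, tr_mul]
    simp only [tr, aff_mul]
    refine aff_congr ?_ ?_ ?_ ?_ ?_ ?_ <;> grind
  · refine hconj _ _ _ ?_
    simp only [hxdef, hadef, htdef, tr_mul]
    simp only [tr, aff_mul]
    refine aff_congr ?_ ?_ ?_ ?_ ?_ ?_ <;> grind
  · refine hconj _ _ _ ?_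
    simp only [hxdef, hadef, htdef, tr_mul]
    simp only [tr, aff_mul]
    refine aff_congr ?_ ?_ ?_ ?_ ?_ ?_ <;> grind
  · refine hconj _ _ _ ?_
    simp only [hxdef, hadef, htdef, tr_mul]
    simp only [tr, aff_mul]
    refine aff_congr ?_ ?_ ?_ ?_ ?_ ?_ <;> grind
  · refine hconj _ _ _ ?_
    simp only [hxdef, hadef, htdef, tr_mul]
    simp only [tr, aff_mul]
    refine aff_congr ?_ ?_ ?_ ?_ ?_ ?_ <;> grind
  · refine hconj _ _ _ ?_
    simp only [hxdef, hadef, htdef, tr_mul]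
    simp only [tr, aff_mul]
    refine aff_congr ?_ ?_ ?_ ?_ ?_ ?_ <;> grind
  · refine hconj _ _ _ ?_
    simp only [hxdef, hadef, htdef, tr_mul]
    simp only [tr, aff_mul]
    refine aff_congr ?_ ?_ ?_ ?_ ?_ ?_ <;> grind
  · refine hconj _ _ _ ?_
    simp only [hxdef, hadef, htdef, tr_mul]
    simp only [tr, aff_mul]
    refine aff_congr ?_ ?_ ?_ ?_ ?_ ?_ <;> grind
  · refine hconj _ _ _ ?_
    simp only [hxdef, hadef, htdef, tr_mul]
    simp only [tr, aff_mul]
    refine aff_congr ?_ ?_ ?_ ?_ ?_ ?_ <;> grind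
  · refine hconj _ _ _ ?_
    simp only [hxdef, hadef, htdef, tr_mul]
    simp only [tr, aff_mul]
    refine aff_congr ?_ ?_ ?_ ?_ ?_ ?_ <;> grind
  · refine hconj _ _ _ ?_
    simp only [hxdef, hadef, htdef, tr_mul]
    simp only [tr, aff_mul]
    refine aff_congr ?_ ?_ ?_ ?_ ?_ ?_ <;> grind
  · refine hconj _ _ _ ?_
    simp only [hxdef, hadef, htdef, tr_mul]
    simp only [tr, aff_mul]
    refine aff_congr ?_ ?_ ?_ ?_ ?_ ?_ <;> grind
  · intro h
    have := congrArg (fun M : lastRow F => ((M : Matrix.SpecialLinearGroup (Fin 3) F) : Matrix (Fin 3) (Fin 3) F) 0 0) h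
    simp [hxdef, aff] at this
    exact hω1 this
  · rw [eq_bot_iff]
    intro g hg
    obtain ⟨hgl, hgt⟩ := mem_inf.1 hg
    have hl : g ∈ linear (F := F) := by
      refine (closure_le _).2 ?_ hgl
      rintro _ ⟨i, hi, rfl⟩
      interval_cases i <;> simp [seqThree, hxdef, hadef, htdef, linear, aff]
    have ht : ∃ u v : F, g = tr u v := by
      clear hl hgl hg
      induction hgt using closure_induction with
      | mem y hy =>
        simp only [Set.mem_insert_iff, Set.mem_singleton_iff] at hy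
        rcases hy with rfl | rfl | rfl | rfl <;> exact ⟨_, _, rfl⟩
      | one => exact ⟨0, 0, aff_one.symm⟩
      | mul y z _ _ hy hz =>
        obtain ⟨u, v, rfl⟩ := hy
        obtain ⟨u', v', rfl⟩ := hz
        exact ⟨_, _, tr_mul u v u' v'⟩
      | inv y _ hy =>
        obtain ⟨u, v, rfl⟩ := hy
        refine ⟨-u, -v, inv_eq_of_mul_eq_one_right ?_⟩
        rw [tr_mul, ← aff_one, tr]
        exact aff_congr rfl rfl rfl rfl (by ring) (by ring)
    obtain ⟨u, v, rfl⟩ := ht
    obtain ⟨e0, e1⟩ := hl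
    simp [tr, aff] at e0 e1
    rw [mem_bot, ← aff_one, tr]
    exact aff_congr rfl rfl rfl rfl e0 e1
  · rintro ⟨i, j, k, l⟩ h
    simp only [word] at h
    rw [tr_pow, tr_pow, tr_pow, tr_pow, tr_mul, tr_mul, tr_mul] at h
    have e0 := congrArg (fun M : lastRow F => ((M : Matrix.SpecialLinearGroup (Fin 3) F) : Matrix (Fin 3) (Fin 3) F) 0 2) h
    have e1 := congrArg (fun M : lastRow F => ((M : Matrix.SpecialLinearGroup (Fin 3) F) : Matrix (Fin 3) (Fin 3) F) 1 2) h
    simp [tr, aff] at e0 e1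
    have key : ∀ m n : ℕ, (m : F) + (n : F) * ω = 0 → Even m ∧ Even n := by
      intro m n e
      rw [Nat.even_iff, Nat.even_iff]
      rw [← Nat.div_add_mod m 2, ← Nat.div_add_mod n 2] at e
      push_cast at e
      rw [CharTwo.two_eq_zero, zero_mul, zero_add, zero_mul, zero_add] at e
      rcases Nat.mod_two_eq_zero_or_one m with hm | hm <;> rcases Nat.mod_two_eq_zero_or_one n with hn | hn <;>
        rw [hm, hn] at e <;> simp at e
      · exact ⟨hm, hn⟩
      · exact absurd e hω0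
      · exact absurd (add_eq_zero_iff_eq_neg.1 e) (by rw [hneg]; exact Ne.symm hω1)
    obtain ⟨h1, h2'⟩ := key i j e0
    obtain ⟨h3, h4⟩ := key k l e1
    exact ⟨h1, h2', h3, h4⟩
  · let f : lastRow F → SL(2, F) × F × F := fun M =>
      let N := ((M : Matrix.SpecialLinearGroup (Fin 3) F) : Matrix (Fin 3) (Fin 3) F)
      (⟨!![N 0 0, N 0 1; N 1 0, N 1 1], by
        have hdet := (M : Matrix.SpecialLinearGroup (Fin 3) F).2
        obtain ⟨c0, c1, c2⟩ := M.2
        rw [Matrix.det_fin_three, c0, c1, c2] at hdet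
        rw [Matrix.det_fin_two_of]
        linear_combination hdet⟩, N 0 2, N 1 2)
    have hf : Function.Injective f := by
      intro M M' h
      obtain ⟨c0, c1, c2⟩ := M.2
      obtain ⟨d0, d1, d2⟩ := M'.2
      have hA := congrArg Prod.fst h
      have hu : ((M : Matrix.SpecialLinearGroup (Fin 3) F) : Matrix (Fin 3) (Fin 3) F) 0 2 =
          ((M' : Matrix.SpecialLinearGroup (Fin 3) F) : Matrix (Fin 3) (Fin 3) F) 0 2 :=
        congrArg (fun q : SL(2, F) × F × F => q.2.1) h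
      have hv : ((M : Matrix.SpecialLinearGroup (Fin 3) F) : Matrix (Fin 3) (Fin 3) F) 1 2 =
          ((M' : Matrix.SpecialLinearGroup (Fin 3) F) : Matrix (Fin 3) (Fin 3) F) 1 2 :=
        congrArg (fun q : SL(2, F) × F × F => q.2.2) h
      have hA' := congrArg Subtype.val hA
      have a00 := congrArg (fun N : Matrix (Fin 2) (Fin 2) F => N 0 0) hA'
      have a01 := congrArg (fun N : Matrix (Fin 2) (Fin 2) F => N 0 1) hA'
      have a10 := congrArg (fun N : Matrix (Fin 2) (Fin 2) F => N 1 0) hA'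
      have a11 := congrArg (fun N : Matrix (Fin 2) (Fin 2) F => N 1 1) hA'
      simp [f] at a00 a01 a10 a11
      refine Subtype.ext (Subtype.ext ?_)
      ext p q
      fin_cases p <;> fin_cases q <;> simp_all
    refine (Nat.card_le_card_of_injective f hf).trans (le_of_eq ?_)
    rw [Nat.card_prod, Nat.card_prod, Classical.SL2Pair.card_SL_two, Nat.card_eq_fintype_card, hF]
    norm_num

end CfsgLib.Recog.SmallOrders
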