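import Cfsg.Agent.Lib.Recog.SmallOrders.Critical
import Cfsg.Agent.Lib.Classical.SL2Pair

/-!
Owner: helper3. The two frames: in a critical group with spectrum `{1, 2, 3, 4, 5}` over `A₅`, and in the affine group.
-/

set_option autoImplicit false

namespace CfsgLib.Recog.SmallOrders

open Subgroup

universe u

/-- `(0 1 2)` -/
def g0 : alternatingGroup (Fin 5) :=
  ⟨Equiv.swap 0 1 * Equiv.swap 1 2, Equiv.Perm.mem_alternatingGroup.2 (by decide)⟩
/-- `(0 1)(2 3)` -/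
def g1 : alternatingGroup (Fin 5) :=
  ⟨Equiv.swap 0 1 * Equiv.swap 2 3, Equiv.Perm.mem_alternatingGroup.2 (by decide)⟩
/-- `(0 1)(3 4)` -/
def g2 : alternatingGroup (Fin 5) :=
  ⟨Equiv.swap 0 1 * Equiv.swap 3 4, Equiv.Perm.mem_alternatingGroup.2 (by decide)⟩
/-- `(0 1 4)` -/
def gy : alternatingGroup (Fin 5) :=
  ⟨Equiv.swap 0 1 * Equiv.swap 1 4, Equiv.Perm.mem_alternatingGroup.2 (by decide)⟩

theorem g_facts : g0 ^ 3 = 1 ∧ g0 ≠ 1 ∧ g1 ^ 2 = 1 ∧ g1 ≠ 1 ∧ g2 ^ 2 = 1 ∧ g2 ≠ 1 ∧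
    (g0 * g2) ^ 2 = 1 ∧ g0 * g2 ≠ 1 ∧ (g0 * g1) ^ 3 = 1 ∧ g0 * g1 ≠ 1 ∧ (g1 * g2) ^ 3 = 1 ∧ g1 * g2 ≠ 1 ∧
    gy ^ 3 = 1 ∧ gy ≠ 1 ∧ g1 * gy * g1⁻¹ = gy⁻¹ ∧ g2 * g0 * g2⁻¹ = g0⁻¹ ∧
    (g0 * g2) * g0 * (g0 * g2)⁻¹ = g0⁻¹ ∧ (g0 * g1 * g2) ^ 5 = 1 ∧ g0 * g1 * g2 ≠ 1 := by
  refine ⟨?_, ?_, ?_, ?_, ?_, ?_, ?_, ?_, ?_, ?_, ?_, ?_, ?_, ?_, ?_, ?_, ?_, ?_, ?_⟩ <;> decide +kernel

variable {G : Type u} [Group G] [Finite G]

theorem closure_g_eq_top (K : Subgroup (alternatingGroup (Fin 5))) (h0 : g0 ∈ K) (h1 : g1 ∈ K) (h2 : g2 ∈ K) :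
    K = ⊤ := by
  obtain ⟨f0, f0', f1, f1', -, -, -, -, -, -, -, -, -, -, -, -, -, f5, f5'⟩ := g_facts
  haveI : Fact (Nat.Prime 2) := ⟨Nat.prime_two⟩
  haveI : Fact (Nat.Prime 3) := ⟨Nat.prime_three⟩
  haveI : Fact (Nat.Prime 5) := ⟨by norm_num⟩
  have key : ∀ (g : alternatingGroup (Fin 5)) (p : ℕ) [Fact p.Prime], g ∈ K → g ^ p = 1 → g ≠ 1 → p ∣ Nat.card K := by
    intro g p _ hg hp h1
    have := orderOf_dvd_natCard (⟨g, hg⟩ : K)
    rwa [← Subgroup.orderOf_coe, orderOf_eq_prime hp h1] at this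
  have h30 : 30 ∣ Nat.card K :=
    Nat.Coprime.mul_dvd_of_dvd_of_dvd (by norm_num : Nat.Coprime 6 5)
      (Nat.Coprime.mul_dvd_of_dvd_of_dvd (by norm_num : Nat.Coprime 2 3) (key g1 2 h1 f1 f1') (key g0 3 h0 f0 f0'))
      (key _ 5 (mul_mem (mul_mem h0 h1) h2) f5 f5')
  have h := K.card_mul_index
  rw [nat_card_alternatingGroup, Nat.card_fin, show Nat.factorial 5 / 2 = 60 from rfl] at h
  obtain ⟨c, hc⟩ := h30
  rw [hc] at h
  have hi : K.index = 1 ∨ K.index = 2 := by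
    have : K.index ∣ 2 := ⟨c, by nlinarith⟩
    exact (Nat.dvd_prime Nat.prime_two).1 this
  rcases hi with hi | hi
  · exact index_eq_one.1 hi
  · haveI := normal_of_index_eq_two hi
    rcases IsSimpleGroup.eq_bot_or_eq_top_of_normal K inferInstance with hK | hK
    · subst hK; exact absurd h1 fun hg => f1' (mem_bot.1 hg)
    · exact hK

section Setting

variable (hord : ∀ g : G, orderOf g ≤ 5) (hpp : ∀ g : G, g ≠ 1 → IsPrimePow (orderOf g))
  (R : Subgroup G) [R.Normal] (hR : Cfsg.IsElementaryAbelian 2 R)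
  (ψ : G →* alternatingGroup (Fin 5)) (hψ : Function.Surjective ψ) (hker : ψ.ker = R)

include hord in
omit [R.Normal] in
theorem orderOf_lift {g : G} {p : ℕ} [hp : Fact p.Prime] (h2 : 3 ≤ p) (hg : ψ g ^ p = 1) (hg1 : ψ g ≠ 1) :
    orderOf g = p := by
  obtain ⟨j, hj⟩ : p ∣ orderOf g := orderOf_eq_prime hg hg1 ▸ orderOf_map_dvd ψ g
  have := hord g
  have := orderOf_pos g
  rcases Nat.lt_or_ge j 2 with h | h
  · interval_cases j <;> omega
  · have : p * 2 ≤ p * j := Nat.mul_le_mul_left p h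
    omega

omit [Finite G] [R.Normal] in
theorem sq_eq_one (hR : Cfsg.IsElementaryAbelian 2 R) {r : G} (hr : r ∈ R) : r * r = 1 := by
  rw [← pow_two]; exact hR.2 r hr

omit [Finite G] [R.Normal] in
theorem comm_mem (hR : Cfsg.IsElementaryAbelian 2 R) {r r' : G} (hr : r ∈ R) (hr' : r' ∈ R) : r * r' = r' * r :=
  congrArg Subtype.val (hR.1.1.comm (⟨r, hr⟩ : R) ⟨r', hr'⟩)

include hpp hR in
/-- Elements of order three act without fixed points and with norm one. -/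
theorem three_action {g : G} (hg : orderOf g = 3) {r : G} (hr : r ∈ R) :
    (g * r = r * g → r = 1) ∧ r * (g * r * g⁻¹) * (g * (g * r * g⁻¹) * g⁻¹) = 1 := by
  have hfpf : ∀ {s : G}, s ∈ R → g * s = s * g → s = 1 := by
    intro s hs hc
    by_contra hs1
    exact Orders.eppo_commute hpp Nat.prime_two Nat.prime_three (by norm_num) (i := 1) hs1
      (by rw [pow_one, pow_two]; exact sq_eq_one R hR hs) hg hc.symm
  refine ⟨hfpf hr, ?_⟩
  have h3 : g * g * g = 1 := by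
    rw [← pow_two, ← pow_succ, show 2 + 1 = orderOf g from hg.symm, pow_orderOf_eq_one]
  have hf3 : ∀ x : R, MulAut.conjNormal g (MulAut.conjNormal g (MulAut.conjNormal g x)) = x := fun x => by
    refine Subtype.ext ?_
    simp only [MulAut.conjNormal_apply]
    calc g * (g * (g * (x : G) * g⁻¹) * g⁻¹) * g⁻¹ = g * g * g * (x : G) * (g * g * g)⁻¹ := by group
      _ = (x : G) := by rw [h3, one_mul, inv_one, mul_one]
  have hfix : ∀ x : R, MulAut.conjNormal g x = x → x = 1 := fun x hx => by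
    have := congrArg Subtype.val hx
    rw [MulAut.conjNormal_apply] at this
    exact Subtype.ext (hfpf x.2 (mul_inv_eq_iff_eq_mul.1 this))
  have := congrArg Subtype.val (CIT.three_prod_eq_one (MulAut.conjNormal g) hf3 hfix ⟨r, hr⟩)
  simpa only [Subgroup.coe_mul, MulAut.conjNormal_apply, Subgroup.coe_one] using this

include hord hpp hR hker in
theorem exists_involution_lift (t y : G) (ht : ψ t ^ 2 = 1) (hy : ψ y ^ 3 = 1) (hy1 : ψ y ≠ 1)
    (hinv : ψ t * ψ y * (ψ t)⁻¹ = (ψ y)⁻¹) : ∃ t₀ : G, ψ t₀ = ψ t ∧ t₀ * t₀ = 1 := by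
  haveI : Fact (Nat.Prime 3) := ⟨Nat.prime_three⟩
  have hyo := orderOf_lift hord ψ le_rfl hy hy1
  have hm : ∀ (g : G) {r : G}, r ∈ R → g * r * g⁻¹ ∈ R := fun g r hr => Subgroup.Normal.conj_mem inferInstance r hr g
  set s := t * t with hs
  have hsR : s ∈ R := by rw [← hker, MonoidHom.mem_ker, map_mul, ← pow_two, ht]
  set x := y * s * y⁻¹ with hx
  have hxR : x ∈ R := hm y hsR
  refine ⟨t * x, by rw [map_mul, show ψ x = 1 from MonoidHom.mem_ker.1 (hker ▸ hxR), mul_one], ?_⟩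
  have hu : t⁻¹ * y * t * y ∈ R := by
    rw [← hker, MonoidHom.mem_ker, map_mul, map_mul, map_mul, map_inv]
    have htt : (ψ t)⁻¹ = ψ t := inv_eq_of_mul_eq_one_right (by rw [← pow_two, ht])
    calc (ψ t)⁻¹ * ψ y * ψ t * ψ y = ψ t * ψ y * (ψ t)⁻¹ * ψ y := by rw [htt]
      _ = 1 := by rw [hinv, inv_mul_cancel]
  have e1 : t⁻¹ * x * t = y⁻¹ * s * y := by
    calc t⁻¹ * x * t = (t⁻¹ * y * t * y) * (y⁻¹ * (t⁻¹ * (t * t) * t) * y) * (t⁻¹ * y * t * y)⁻¹ := by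
          rw [hx, hs]; group
      _ = (t⁻¹ * y * t * y) * (y⁻¹ * s * y) * (t⁻¹ * y * t * y)⁻¹ := by rw [hs]; group
      _ = y⁻¹ * s * y := by
        rw [comm_mem R hR hu (by simpa using hm y⁻¹ hsR), mul_inv_cancel_right]
  have hyy : y * y = y⁻¹ := eq_inv_of_mul_eq_one_left (by
    rw [← pow_two, ← pow_succ, show 2 + 1 = orderOf y from hyo.symm, pow_orderOf_eq_one])
  have hn : s * x * (y⁻¹ * s * y) = 1 := by
    have h := (three_action hpp R hR hyo hsR).2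
    rw [show y * (y * s * y⁻¹) * y⁻¹ = (y * y) * s * (y * y)⁻¹ by group, hyy, inv_inv] at h
    exact h
  calc t * x * (t * x) = (t * t) * (t⁻¹ * x * t) * x := by group
    _ = s * (y⁻¹ * s * y) * x := by rw [e1]
    _ = 1 := by rw [mul_assoc, comm_mem R hR (by simpa using hm y⁻¹ hsR) hxR, ← mul_assoc, hn]

include hord hpp hR hψ hker in
theorem exists_frame (hR1 : R ≠ ⊥) :
    ∃ x a t s : G, Frame x a t s (x * s * x⁻¹) (t * s * t⁻¹) (t * (x * s * x⁻¹) * t⁻¹) ∧ s ∈ R ∧ s ≠ 1 ∧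
      ψ x = g0 ∧ ψ a = g1 ∧ ψ t = g2 := by
  haveI : Fact (Nat.Prime 3) := ⟨Nat.prime_three⟩
  obtain ⟨f0, f0', f1, f1', f2, f2', f02, f02', f01, f01', f12, f12', fy, fy', i1, i2, i02, -, -⟩ := g_facts
  have hm : ∀ (g : G) {r : G}, r ∈ R → g * r * g⁻¹ ∈ R := fun g r hr => Subgroup.Normal.conj_mem inferInstance r hr g
  obtain ⟨A, hA⟩ := hψ g1
  obtain ⟨Y, hY⟩ := hψ gy
  obtain ⟨T, hT⟩ := hψ g2
  obtain ⟨X, hX⟩ := hψ g0
  obtain ⟨a, ha, haa⟩ := exists_involution_lift hord hpp R hR ψ hker A Y (hA ▸ f1) (hY ▸ fy) (hY ▸ fy')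
    (by rw [hA, hY]; exact i1)
  rw [hA] at ha
  obtain ⟨t, ht, htt⟩ := exists_involution_lift hord hpp R hR ψ hker T X (hT ▸ f2) (hX ▸ f0) (hX ▸ f0')
    (by rw [hT, hX]; exact i2)
  rw [hT] at ht
  obtain ⟨v, hv, hvv⟩ := exists_involution_lift hord hpp R hR ψ hker (X * T) X (by rw [map_mul, hX, hT]; exact f02)
    (hX ▸ f0) (hX ▸ f0') (by rw [map_mul, hX, hT]; exact i02)
  rw [map_mul, hX, hT] at hv
  set x := v * t with hxdef
  have hx : ψ x = g0 := by rw [hxdef, map_mul, hv, ht, mul_assoc, ← pow_two, f2, mul_one]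
  have hxt : x * t = v := by rw [hxdef, mul_assoc, htt, mul_one]
  have hcube : ∀ g : G, ψ g ^ 3 = 1 → ψ g ≠ 1 → orderOf g = 3 ∧ g * g * g = 1 := fun g h h1 =>
    ⟨orderOf_lift hord ψ le_rfl h h1, by
      rw [← pow_two, ← pow_succ, show 2 + 1 = orderOf g from (orderOf_lift hord ψ le_rfl h h1).symm,
        pow_orderOf_eq_one]⟩
  obtain ⟨hxo, hx3⟩ := hcube x (hx ▸ f0) (hx ▸ f0')
  obtain ⟨hxao, hxa3⟩ := hcube (x * a) (by rw [map_mul, hx, ha]; exact f01) (by rw [map_mul, hx, ha]; exact f01')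
  obtain ⟨hato, hat3⟩ := hcube (a * t) (by rw [map_mul, ha, ht]; exact f12) (by rw [map_mul, ha, ht]; exact f12')
  obtain ⟨s, hs, hs1, has⟩ : ∃ s ∈ R, s ≠ 1 ∧ a * s * a⁻¹ = s := by
    obtain ⟨r, hr, hr1⟩ := (bot_or_exists_ne_one R).resolve_left hR1
    by_cases h : a * r * a⁻¹ = r
    · exact ⟨r, hr, hr1, h⟩
    refine ⟨r * (a * r * a⁻¹), mul_mem hr (hm a hr), fun e => h ?_, ?_⟩
    · exact ((inv_eq_of_mul_eq_one_right e).symm.trans (inv_eq_of_mul_eq_one_right (sq_eq_one R hR hr)))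
    · calc a * (r * (a * r * a⁻¹)) * a⁻¹ = (a * r * a⁻¹) * ((a * a) * r * (a * a)⁻¹) := by group
        _ = r * (a * r * a⁻¹) := by rw [haa, one_mul, inv_one, mul_one, comm_mem R hR hr (hm a hr)]
  set s₂ := x * s * x⁻¹ with hs₂def
  set s₃ := t * s * t⁻¹ with hs₃def
  set s₄ := t * s₂ * t⁻¹ with hs₄def
  have hs₂ : s₂ ∈ R := hm x hs
  have hs₃ : s₃ ∈ R := hm t hs
  have hs₄ : s₄ ∈ R := hm t hs₂
  have hinvself : ∀ {r : G}, r ∈ R → r⁻¹ = r := fun hr => inv_eq_of_mul_eq_one_right (sq_eq_one R hR hr)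
  have hnorm : ∀ (g : G), orderOf g = 3 → ∀ {r : G}, r ∈ R → g * (g * r * g⁻¹) * g⁻¹ = r * (g * r * g⁻¹) := by
    intro g hg r hr
    rw [← hinvself (mul_mem hr (hm g hr))]
    exact eq_inv_of_mul_eq_one_right (three_action hpp R hR hg hr).2
  have hx₂ : x * s₂ * x⁻¹ = s * s₂ := hnorm x hxo hs
  have ha₂ : a * s₂ * a⁻¹ = s₂ := by
    have h := hnorm (x * a) hxao hs
    have e : x * a * s * (x * a)⁻¹ = s₂ := by rw [hs₂def, show x * a * s * (x * a)⁻¹ = x * (a * s * a⁻¹) * x⁻¹ by group, has]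
    rw [e] at h
    apply (MulAut.conj x).injective
    show x * (a * s₂ * a⁻¹) * x⁻¹ = x * s₂ * x⁻¹
    rw [hx₂, ← h]
    group
  -- the shear
  have shear : ∀ r ∈ R, a * r * a⁻¹ = r → a * (t * r * t⁻¹) * a⁻¹ = (t * r * t⁻¹) * r := by
    intro r hr har
    have h := hnorm (a * t) hato hr
    set r' := t * r * t⁻¹ with hr'
    have hr'R : r' ∈ R := hm t hr
    set u := a * r' * a⁻¹ with hu
    have huR : u ∈ R := hm a hr'R
    have e : a * t * r * (a * t)⁻¹ = u := by rw [hu, hr']; group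
    rw [e] at h
    have e2 : a * t * r' * (a * t)⁻¹ = r := by
      calc a * t * r' * (a * t)⁻¹ = a * ((t * t) * r * (t * t)⁻¹) * a⁻¹ := by rw [hr']; group
        _ = r := by rw [htt, one_mul, inv_one, mul_one, har]
    have e3 : a * t * (u * r') * (a * t)⁻¹ = u := by
      calc a * t * (u * r') * (a * t)⁻¹ = (a * t * u * (a * t)⁻¹) * (a * t * r' * (a * t)⁻¹) := by group
        _ = u := by
          rw [e2, h, comm_mem R hR hr huR, mul_assoc, sq_eq_one R hR hr, mul_one]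
    have hw : u * r' = r := (MulAut.conj (a * t)).injective (e3.trans e.symm)
    calc u = u * (r' * r') := by rw [sq_eq_one R hR hr'R, mul_one]
      _ = r' * r := by rw [← mul_assoc, hw, comm_mem R hR hr hr'R]
  have hxt2 : x * t = t * x⁻¹ := by
    have h1 : (x * t)⁻¹ = x * t := inv_eq_of_mul_eq_one_right (by rw [hxt]; exact hvv)
    rw [← h1, _root_.mul_inv_rev, inv_eq_of_mul_eq_one_right htt]
  refine ⟨x, a, t, s, ⟨⟨fun _ => hx3, ?_, ?_, ?_⟩, sq_eq_one R hR hs, sq_eq_one R hR hs₂, sq_eq_one R hR hs₃,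
    sq_eq_one R hR hs₄, comm_mem R hR hs hs₂, comm_mem R hR hs hs₃, comm_mem R hR hs hs₄,
    comm_mem R hR hs₂ hs₃, comm_mem R hR hs₂ hs₄, comm_mem R hR hs₃ hs₄, rfl, hx₂, ?_, ?_, has, ha₂,
    shear s hs has, shear s₂ hs₂ ha₂, rfl, rfl, ?_, ?_⟩, hs, hs1, hx, ha, ht⟩
  · intro i h1 h3
    interval_cases i
    · exact haa
    · exact htt
  · intro i h
    rcases Nat.lt_or_ge i 1 with hi | hi
    · obtain rfl : i = 0 := by omega
      exact hxa3
    · obtain rfl : i = 1 := by omega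
      exact hat3
  · intro i j hij hj
    obtain rfl : i = 0 := by omega
    obtain rfl : j = 2 := by omega
    show x * t * (x * t) = 1
    rw [hxt]; exact hvv
  · -- `x` on `s₃`
    calc x * s₃ * x⁻¹ = (x * t) * s * (x * t)⁻¹ := by rw [hs₃def]; group
      _ = t * (x⁻¹ * s * x) * t⁻¹ := by rw [hxt2]; group
      _ = t * (s * s₂) * t⁻¹ := by
        congr 2
        rw [← hx₂, hs₂def, show x * (x * s * x⁻¹) * x⁻¹ = (x * x) * s * (x * x)⁻¹ by group,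
          eq_inv_of_mul_eq_one_left hx3, inv_inv]
      _ = s₃ * s₄ := by rw [hs₃def, hs₄def]; group
  · calc x * s₄ * x⁻¹ = (x * t) * s₂ * (x * t)⁻¹ := by rw [hs₄def]; group
      _ = t * (x⁻¹ * s₂ * x) * t⁻¹ := by rw [hxt2]; group
      _ = s₃ := by rw [hs₂def, hs₃def]; group
  · calc t * s₃ * t⁻¹ = (t * t) * s * (t * t)⁻¹ := by rw [hs₃def]; group
      _ = s := by rw [htt, one_mul, inv_one, mul_one]
  · calc t * s₄ * t⁻¹ = (t * t) * s₂ * (t * t)⁻¹ := by rw [hs₄def]; group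
      _ = s₂ := by rw [htt, one_mul, inv_one, mul_one]

include hpp hR hker in
omit [R.Normal] in
theorem frame_independent [R.Normal] {x a t s : G}
    (F : Frame x a t s (x * s * x⁻¹) (t * s * t⁻¹) (t * (x * s * x⁻¹) * t⁻¹)) (hs : s ∈ R) (hs1 : s ≠ 1)
    (hx : orderOf x = 3) (hat : orderOf (a * t) = 3) :
    ∀ i, word s (x * s * x⁻¹) (t * s * t⁻¹) (t * (x * s * x⁻¹) * t⁻¹) i = 1 →
      Even i.1 ∧ Even i.2.1 ∧ Even i.2.2.1 ∧ Even i.2.2.2 := by
  rintro ⟨i, j, k, l⟩ h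
  have hm : ∀ (g : G) {r : G}, r ∈ R → g * r * g⁻¹ ∈ R := fun g r hr => Subgroup.Normal.conj_mem inferInstance r hr g
  set s₂ := x * s * x⁻¹ with hs₂def
  set p := s ^ i * s₂ ^ j with hp
  set q := s ^ k * s₂ ^ l with hq
  have hqt : (t * s * t⁻¹) ^ k * (t * s₂ * t⁻¹) ^ l = t * q * t⁻¹ := by
    rw [conj_pow, conj_pow, hq]; group
  have hfix : ∀ m n : ℕ, a * (s ^ m * s₂ ^ n) * a⁻¹ = s ^ m * s₂ ^ n := fun m n => by
    rw [show a * (s ^ m * s₂ ^ n) * a⁻¹ = (a * s ^ m * a⁻¹) * (a * s₂ ^ n * a⁻¹) by group, ← conj_pow, ← conj_pow,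
      F.a₁, F.a₂]
  have hpR : p ∈ R := mul_mem (pow_mem hs i) (pow_mem (hm x hs) j)
  have hqR : q ∈ R := mul_mem (pow_mem hs k) (pow_mem (hm x hs) l)
  have hpq : p = t * q * t⁻¹ := by
    have h' : p * (t * q * t⁻¹) = 1 := by
      rw [← hqt]
      simp only [word] at h
      rw [hp, ← mul_assoc]
      exact h
    rw [eq_inv_of_mul_eq_one_left h', inv_eq_of_mul_eq_one_right (sq_eq_one R hR (hm t hqR))]
  have hp1 : p = 1 := by
    have htt : t * t = 1 := F.rels.invol 2 (by norm_num) (by norm_num)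
    have h2 : (a * t) * (a * t) * p * ((a * t) * (a * t))⁻¹ = p := by
      have e : t * a * t⁻¹ * p * (t * a * t⁻¹)⁻¹ = p := by
        rw [hpq]
        calc t * a * t⁻¹ * (t * q * t⁻¹) * (t * a * t⁻¹)⁻¹ = t * (a * q * a⁻¹) * t⁻¹ := by group
          _ = t * q * t⁻¹ := by rw [hfix k l]
      calc (a * t) * (a * t) * p * ((a * t) * (a * t))⁻¹ = a * (t * a * t * p * (t * a * t)⁻¹) * a⁻¹ := by group
        _ = a * (t * a * t⁻¹ * p * (t * a * t⁻¹)⁻¹) * a⁻¹ := by rw [inv_eq_of_mul_eq_one_right htt]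
        _ = p := by rw [e]; exact hfix i j
    have h3 : (a * t) * (a * t) * (a * t) = 1 := by
      rw [← pow_two, ← pow_succ, show 2 + 1 = orderOf (a * t) from hat.symm, pow_orderOf_eq_one]
    refine (three_action hpp R hR hat hpR).1 (mul_inv_eq_iff_eq_mul.1 ?_)
    conv_lhs => rw [← h2]
    calc (a * t) * ((a * t) * (a * t) * p * ((a * t) * (a * t))⁻¹) * (a * t)⁻¹
        = ((a * t) * (a * t) * (a * t)) * p * ((a * t) * (a * t) * (a * t))⁻¹ := by group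
      _ = p := by rw [h3, one_mul, inv_one, mul_one]
  have hq1 : q = 1 := by
    have := hpq.symm.trans hp1
    exact conj_eq_one_iff.1 this
  have hsq : s * s = 1 := sq_eq_one R hR hs
  have hsq₂ : s₂ * s₂ = 1 := sq_eq_one R hR (hm x hs)
  have key : ∀ m n : ℕ, s ^ m * s₂ ^ n = 1 → Even m ∧ Even n := by
    intro m n e
    rw [pow_mod_two hsq, pow_mod_two hsq₂] at e
    rw [Nat.even_iff, Nat.even_iff]
    rcases Nat.mod_two_eq_zero_or_one m with hm' | hm' <;> rcases Nat.mod_two_eq_zero_or_one n with hn' | hn' <;>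
      rw [hm', hn'] at e
    · exact ⟨hm', hn'⟩
    · exfalso
      rw [pow_zero, one_mul, pow_one, hs₂def] at e
      exact hs1 (conj_eq_one_iff.1 e)
    · exfalso
      rw [pow_zero, mul_one, pow_one] at e
      exact hs1 e
    · exfalso
      rw [pow_one, pow_one] at e
      refine hs1 ((three_action hpp R hR hx hs).1 (mul_inv_eq_iff_eq_mul.1 ?_))
      rw [← hs₂def, eq_inv_of_mul_eq_one_right e, inv_eq_of_mul_eq_one_right hsq]
  obtain ⟨h1, h2⟩ := key i j (hp ▸ hp1)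
  obtain ⟨h3, h4⟩ := key k l (hq ▸ hq1)
  exact ⟨h1, h2, h3, h4⟩

end Setting

end CfsgLib.Recog.SmallOrders
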