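import Cfsg.Agent.Lib.Recog.SmallOrders.CriticalAffine

/-!
Owner: helper3. A group critical for the spectrum `{1, 2, 3, 4, 5}` is `A₆` or `F² ⋊ SL(2, F)`, `|F| = 4`.
-/

set_option autoImplicit false

namespace CfsgLib.Recog.SmallOrders

open Subgroup

universe u

variable {G : Type u} [Group G] [Finite G]

theorem critical_five
    (hS : ∀ (T : Type u) [Group T] [Finite T] [IsSimpleGroup T], ¬ IsMulCommutative T →
      (∀ g : T, g ≠ 1 → IsPrimePow (orderOf g)) → SimpleEPPOList T)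
    (hspec : Set.range (orderOf : G → ℕ) = {k : ℕ | 1 ≤ k ∧ k ≤ 5})
    (hcrit : ∀ (N : Subgroup G) [N.Normal], N ≠ ⊥ → Set.range (orderOf : (G ⧸ N) → ℕ) ≠ {k : ℕ | 1 ≤ k ∧ k ≤ 5})
    (F : Type) [Field F] [Fintype F] (hF : Fintype.card F = 4) :
    Nonempty (G ≃* alternatingGroup (Fin 6)) ∨ Nonempty (G ≃* ↥(affGroup F)) := by
  rcases spectrum_five hS hspec with h | ⟨R, hRn, hR, ⟨e⟩⟩
  · exact Or.inl h
  right
  haveI : Fact (Nat.Prime 2) := ⟨Nat.prime_two⟩
  haveI : Fact (Nat.Prime 3) := ⟨Nat.prime_three⟩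
  haveI : Fact (Nat.Prime 5) := ⟨by norm_num⟩
  have hord : ∀ g : G, orderOf g ≤ 5 := fun g =>
    (hspec ▸ Set.mem_range_self g : orderOf g ∈ {k : ℕ | 1 ≤ k ∧ k ≤ 5}).2
  have hpp : ∀ g : G, g ≠ 1 → IsPrimePow (orderOf g) := fun g hg => by
    have h1 : orderOf g ≠ 1 := fun h => hg (orderOf_eq_one_iff.1 h)
    have h0 := orderOf_pos g
    have h5 := hord g
    have : orderOf g = 2 ∨ orderOf g = 3 ∨ orderOf g = 4 ∨ orderOf g = 5 := by omega
    rcases this with e | e | e | e <;> rw [e]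
    · exact Nat.prime_two.isPrimePow
    · exact Nat.prime_three.isPrimePow
    · exact ⟨2, 2, Nat.prime_two.prime, by norm_num, by norm_num⟩
    · exact (show Nat.Prime 5 by norm_num).isPrimePow
  set ψ : G →* alternatingGroup (Fin 5) := e.toMonoidHom.comp (QuotientGroup.mk' R) with hψdef
  have hψ : Function.Surjective ψ := e.surjective.comp (QuotientGroup.mk'_surjective R)
  have hker : ψ.ker = R := by
    ext g
    rw [MonoidHom.mem_ker, hψdef, MonoidHom.comp_apply, MulEquiv.coe_toMonoidHom, MulEquiv.map_eq_one_iff]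
    exact QuotientGroup.eq_one_iff g
  have hmem : ∀ g : G, g ∈ R ↔ ψ g = 1 := fun g => by rw [← hker, MonoidHom.mem_ker]
  obtain ⟨f0, f0', f1, f1', f2, f2', f02, f02', f01, f01', f12, f12', -, -, -, -, -, f5, f5'⟩ := g_facts
  have horders : ∀ (g : alternatingGroup (Fin 5)), g ^ 2 = 1 ∨ g ^ 3 = 1 ∨ g ^ 5 = 1 := alt_five_orders
  -- the radical is not trivial
  have hR1 : R ≠ ⊥ := by
    intro hb
    obtain ⟨g, hg⟩ : 4 ∈ Set.range (orderOf : G → ℕ) := by rw [hspec]; exact ⟨by norm_num, by norm_num⟩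
    have hinj : Function.Injective ψ := (MonoidHom.ker_eq_bot_iff ψ).1 (hker.trans hb)
    rw [← orderOf_injective ψ hinj] at hg
    rcases horders (ψ g) with h | h | h <;>
    · have h' := orderOf_dvd_of_pow_eq_one h
      rw [hg] at h'
      norm_num at h'
  -- minimality
  have hmin : ∀ W : Subgroup G, W.Normal → W ≤ R → W ≠ ⊥ → W = R := by
    intro W hWn hWR hW1
    by_contra hne
    apply hcrit W hW1
    have hordW : ∀ z : G ⧸ W, orderOf z ≤ 5 := fun z => by
      obtain ⟨g, rfl⟩ := QuotientGroup.mk'_surjective W z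
      exact (Nat.le_of_dvd (orderOf_pos g) (orderOf_map_dvd _ g)).trans (hord g)
    have hmap : ∀ g : G, ∀ p : ℕ, p.Prime → orderOf g = p → ψ g ≠ 1 → orderOf (QuotientGroup.mk' W g) = p := by
      intro g p hp hg hg1
      rcases (Nat.dvd_prime hp).1 (hg ▸ orderOf_map_dvd (QuotientGroup.mk' W) g) with h | h
      · exact absurd ((hmem g).1 (hWR ((QuotientGroup.eq_one_iff g).1 (orderOf_eq_one_iff.1 h)))) hg1
      · exact h
    obtain ⟨X, hX⟩ := hψ g0
    obtain ⟨Z, hZ⟩ := hψ (g0 * g1 * g2)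
    -- an element of order four
    obtain ⟨g, hg2, hg4⟩ : ∃ g : G, g ^ 2 ∉ W ∧ g ^ 4 = 1 := by
      by_contra hc
      push Not at hc
      have h4 : ∀ g : G, ψ g ^ 2 = 1 → g ^ 4 = 1 := fun g hg => by
        have h1 : g ^ 2 ∈ R := (hmem _).2 (by rw [map_pow, hg])
        rw [show 4 = 2 * 2 from rfl, pow_mul]
        exact hR.2 _ h1
      have hsq : ∀ g : G, ψ g ^ 2 = 1 → g * g ∈ W := fun g hg => by
        rw [← pow_two]; by_contra h; exact hc g h (h4 g hg)
      obtain ⟨A, hA⟩ := hψ g1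
      obtain ⟨B, hB⟩ := hψ g2
      have hcent : ∀ t : G, ψ t ^ 2 = 1 → ∀ r ∈ R, t * r * t⁻¹ * r⁻¹ ∈ W := by
        intro t ht r hr
        have h1 := hsq t ht
        have h2 := hsq (t * r) (by rw [map_mul, (hmem r).1 hr, mul_one, ht])
        have hrr : r⁻¹ = r := inv_eq_of_mul_eq_one_right (sq_eq_one R hR hr)
        have e2 : (t * r * (t * r)) * (r⁻¹ * (t * t)⁻¹ * r) = t * r * t⁻¹ * r := by group
        have h3 : t * r * t⁻¹ * r ∈ W := e2 ▸ mul_mem h2 (by
          have := hWn.conj_mem _ (inv_mem h1) r⁻¹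
          simpa using this)
        rw [hrr]
        exact h3
      have hAB : orderOf (A * B) = 3 := orderOf_lift hord ψ le_rfl (by rw [map_mul, hA, hB]; exact f12)
        (by rw [map_mul, hA, hB]; exact f12')
      refine hne (le_antisymm hWR fun r hr => ?_)
      set g := A * B with hg
      have hr1 : g * r * g⁻¹ * r⁻¹ ∈ W := by
        have hBr := hcent B (hB ▸ f2) r hr
        have hAr := hcent A (hA ▸ f1) r hr
        have e : g * r * g⁻¹ * r⁻¹ = (A * (B * r * B⁻¹ * r⁻¹) * A⁻¹) * (A * r * A⁻¹ * r⁻¹) := by rw [hg]; group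
        exact e ▸ mul_mem (hWn.conj_mem _ hBr A) hAr
      have hr2 := hWn.conj_mem _ hr1 g
      obtain ⟨-, hn⟩ := three_action hpp R hR hAB hr
      set r₁ := g * r * g⁻¹ with hr₁
      have e2 : g * (r₁ * r⁻¹) * g⁻¹ = g * r₁ * g⁻¹ * r₁⁻¹ := by rw [hr₁]; group
      rw [e2] at hr2
      have hr₁R : r₁ ∈ R := Subgroup.Normal.conj_mem inferInstance r hr g
      have hinv : ∀ {w : G}, w ∈ R → w⁻¹ = w := fun hw => inv_eq_of_mul_eq_one_right (sq_eq_one R hR hw)
      have hkey : r = (g * r₁ * g⁻¹ * r₁⁻¹) := by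
        have h3 : g * r₁ * g⁻¹ = r * r₁ := by
          rw [← hinv (mul_mem hr hr₁R)]
          exact eq_inv_of_mul_eq_one_right hn
        rw [h3, mul_inv_cancel_right]
      exact hkey ▸ hr2
    refine Set.Subset.antisymm ?_ ?_
    · rintro _ ⟨z, rfl⟩
      exact ⟨orderOf_pos z, hordW z⟩
    · rintro k ⟨hk1, hk5⟩
      have h4' : orderOf (QuotientGroup.mk' W g) = 4 := by
        have h : orderOf (QuotientGroup.mk' W g) ∣ 2 ^ 2 := (orderOf_map_dvd _ g).trans (orderOf_dvd_of_pow_eq_one hg4)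
        obtain ⟨j, hj, hj'⟩ := (Nat.dvd_prime_pow Nat.prime_two).1 h
        interval_cases j
        · refine absurd ?_ hg2
          have := (QuotientGroup.eq_one_iff g).1 (orderOf_eq_one_iff.1 (hj'.trans (pow_zero 2)))
          exact pow_mem this 2
        · refine absurd ?_ hg2
          rw [← QuotientGroup.eq_one_iff]
          have := pow_orderOf_eq_one (QuotientGroup.mk' W g)
          rw [hj', pow_one, ← map_pow] at this
          exact this
        · exact hj'
      interval_cases k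
      · exact ⟨1, orderOf_one⟩
      · refine ⟨QuotientGroup.mk' W g ^ 2, ?_⟩
        rw [orderOf_pow' _ two_ne_zero, h4']; rfl
      · exact ⟨_, hmap X 3 Nat.prime_three (orderOf_lift hord ψ le_rfl (hX ▸ f0) (hX ▸ f0')) (hX ▸ f0')⟩
      · exact ⟨_, h4'⟩
      · exact ⟨_, hmap Z 5 Fact.out (orderOf_lift hord ψ (by norm_num) (hZ ▸ f5) (hZ ▸ f5')) (hZ ▸ f5')⟩
  obtain ⟨x, a, t, s, Fr, hs, hs1, hx, ha, ht⟩ := exists_frame hord hpp R hR ψ hψ hker hR1
  have hxo : orderOf x = 3 := orderOf_lift hord ψ le_rfl (hx ▸ f0) (hx ▸ f0')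
  have hato : orderOf (a * t) = 3 :=
    orderOf_lift hord ψ le_rfl (by rw [map_mul, ha, ht]; exact f12) (by rw [map_mul, ha, ht]; exact f12')
  set H := AltPresentation.gen (seqThree x a t) 3 with hH
  set S := closure ({s, x * s * x⁻¹, t * s * t⁻¹, t * (x * s * x⁻¹) * t⁻¹} : Set G) with hS₀
  have hHψ : H.map ψ = ⊤ := closure_g_eq_top _
    ⟨x, AltPresentation.mem_gen (x := seqThree x a t) (i := 0) (by norm_num), hx⟩
    ⟨a, AltPresentation.mem_gen (x := seqThree x a t) (i := 1) (by norm_num), ha⟩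
    ⟨t, AltPresentation.mem_gen (x := seqThree x a t) (i := 2) (by norm_num), ht⟩
  have hsurj : Function.Surjective (ψ.comp H.subtype) := fun y => by
    obtain ⟨h, hh, rfl⟩ := (hHψ.symm ▸ mem_top y : y ∈ H.map ψ)
    exact ⟨⟨h, hh⟩, rfl⟩
  have hinjH : Function.Injective (ψ.comp H.subtype) := by
    refine ((Nat.bijective_iff_surjective_and_card _).2 ⟨hsurj, le_antisymm ?_
      (Nat.card_le_card_of_surjective _ hsurj)⟩).1
    obtain ⟨-, h⟩ := AltPresentation.card_gen Fr.rels 3 le_rfl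
    rw [show Nat.factorial (3 + 2) = 120 from rfl] at h
    rw [nat_card_alternatingGroup, Nat.card_fin, show Nat.factorial 5 / 2 = 60 from rfl, hH]
    omega
  have hsup : H ⊔ R = ⊤ := by
    rw [eq_top_iff]
    intro g _
    obtain ⟨h, hh⟩ := hsurj (ψ g)
    have : (h : G)⁻¹ * g ∈ R := (hmem _).2 (by
      rw [map_mul, map_inv]; simp only [MonoidHom.comp_apply, Subgroup.coe_subtype] at hh
      rw [hh, inv_mul_cancel])
    exact (mul_inv_cancel_left (h : G) g) ▸ mul_mem (mem_sup_left h.2) (mem_sup_right this)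
  have hm : ∀ (g : G) {r : G}, r ∈ R → g * r * g⁻¹ ∈ R := fun g r hr => Subgroup.Normal.conj_mem inferInstance r hr g
  have hSR : S ≤ R := (closure_le _).2 (by
    simp only [Set.insert_subset_iff, Set.singleton_subset_iff, SetLike.mem_coe]
    exact ⟨hs, hm x hs, hm t hs, hm t (hm x hs)⟩)
  have hSn : S.Normal := by
    have h1 : H ⊔ R ≤ normalizer (S : Set G) := by
      refine sup_le (normalizes_span Fr) fun r hr => ?_
      refine centralizer_le_normalizer _ (mem_centralizer_iff.2 fun y hy => ?_)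
      exact comm_mem R hR (hSR hy) hr
    rw [hsup] at h1
    exact normalizer_eq_top_iff.1 (top_le_iff.1 h1)
  have hSeq : S = R := hmin S hSn hSR fun h =>
    hs1 (mem_bot.1 (h ▸ subset_closure (by simp) : s ∈ (⊥ : Subgroup G)))
  have hdis : H ⊓ S = ⊥ := by
    rw [hSeq, eq_bot_iff]
    intro g hg
    obtain ⟨hgH, hgR⟩ := mem_inf.1 hg
    exact mem_bot.2 (congrArg Subtype.val (hinjH (a₁ := (⟨g, hgH⟩ : H)) (a₂ := 1)
      (by rw [map_one]; exact (hmem g).1 hgR)))
  obtain ⟨x', a', t', r₁, r₂, r₃, r₄, Fr', hx', hdis', hind', hT⟩ := exists_frame_aff (F := F) hF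
  obtain ⟨e'⟩ := nonempty_equiv_of_frames Fr Fr'
    (MulEquiv.ofBijective (ψ.comp H.subtype) ⟨hinjH, hsurj⟩) (by rw [← hH, ← hS₀, hSeq, hsup]) hdis
    (frame_independent hpp R hR ψ hker Fr hs hs1 hxo hato) hdis' hind' hx' hT
  exact ⟨e'.trans (MulEquiv.subgroupCongr (affGroup_eq F).symm)⟩

end CfsgLib.Recog.SmallOrders
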