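import Cfsg.Agent.Lib.Recog.SmallOrders.AltSixOuter
import Cfsg.Agent.Lib.CIT.Basic
import Cfsg.Agent.Lib.Known.L34.Upper
import Cfsg.Agent.Lib.Recog.SimpleSixty
import Cfsg.Agent.Lib.Recog.AltFive
import Cfsg.Agent.S1163
import Cfsg.Agent.Lib.Classical.Dickson.SubgroupFacts

/-!
Owner: helper3. Groups with element orders exactly `{1, 2, 3, 4, 5}`, given the classification of the simple groups
all of whose elements have prime power order.
-/

set_option autoImplicit false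

namespace CfsgLib.Recog.SmallOrders

open Subgroup
open scoped Pointwise

universe u

variable {G : Type u} [Group G] [Finite G]

/-- The classification of the simple groups with all element orders prime powers, as a hypothesis. -/
def SimpleEPPOList (T : Type u) [Group T] : Prop :=
  Nonempty (T ≃* alternatingGroup (Fin 6)) ∨
    (∃ (F : Type) (_ : Field F) (_ : Fintype F), Fintype.card F ∈ ({4, 7, 8, 17} : Finset ℕ) ∧
      Nonempty (T ≃* Matrix.ProjectiveSpecialLinearGroup (Fin 2) F)) ∨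
    (∃ (F : Type) (_ : Field F) (_ : Fintype F), Fintype.card F = 4 ∧
      Nonempty (T ≃* Matrix.ProjectiveSpecialLinearGroup (Fin 3) F)) ∨
    (∃ (F : Type) (_ : Field F) (_ : Fintype F),
      (Fintype.card F = 8 ∧ Nonempty (T ≃* ↥(Cfsg.Lie.Sz F 4))) ∨
        (Fintype.card F = 32 ∧ Nonempty (T ≃* ↥(Cfsg.Lie.Sz F 8))))

theorem card_alt_six : Nat.card (alternatingGroup (Fin 6)) = 360 := by
  rw [nat_card_alternatingGroup, Nat.card_fin]
  rfl

/-- A simple group of the list with element orders at most five has order 60 or is `A₆`. -/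
theorem sixty_or_alt_six {T : Type u} [Group T] [Finite T] (hT : SimpleEPPOList T)
    (hord : ∀ g : T, orderOf g ≤ 5) : Nat.card T = 60 ∨ Nonempty (T ≃* alternatingGroup (Fin 6)) := by
  have key : ∀ p : ℕ, p.Prime → p ∣ Nat.card T → p ≤ 5 := fun p hp hd => by
    haveI := Fact.mk hp
    obtain ⟨g, hg⟩ := exists_prime_orderOf_dvd_card' (G := T) p hd
    exact hg ▸ hord g
  rcases hT with h | ⟨F, _, _, hF, ⟨e⟩⟩ | ⟨F, _, _, hF, ⟨e⟩⟩ | ⟨F, _, _, ⟨hF, ⟨e⟩⟩ | ⟨hF, ⟨e⟩⟩⟩
  · exact Or.inr h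
  · left
    simp only [Finset.mem_insert, Finset.mem_singleton] at hF
    rcases hF with hF | hF | hF | hF <;>
      have h := Classical.Dickson.gcd_mul_card_psl (F := F) hF <;>
      rw [← Nat.card_congr e.toEquiv] at h <;> norm_num at h
    · exact h
    · have := key 7 (by norm_num) ⟨24, by omega⟩
      omega
    · have := key 7 (by norm_num) ⟨72, by omega⟩
      omega
    · have := key 17 (by norm_num) ⟨144, by omega⟩
      omega
  · have h := Known.L34.card_PSL (F := F) hF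
    rw [← Nat.card_congr e.toEquiv] at h
    have := key 7 (by norm_num) ⟨2880, by omega⟩
    omega
  · have h := (Cfsg.Agent.S1163.result (F := F) (m := 1) le_rfl hF).1
    have h' : Nat.card T = 29120 := (Nat.card_congr e.toEquiv).trans (h.trans (by norm_num))
    have := key 7 (by norm_num) ⟨4160, by omega⟩
    omega
  · have h := (Cfsg.Agent.S1163.result (F := F) (m := 2) one_le_two hF).1
    have h' : Nat.card T = 32537600 := (Nat.card_congr e.toEquiv).trans (h.trans (by norm_num))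
    have := key 31 (by norm_num) ⟨1049600, by omega⟩
    omega

theorem exists_square_elementary (q : ℕ) (hq : q = 2 ∨ q = 3) :
    ∃ a b : alternatingGroup (Fin 6), a ^ q = 1 ∧ b ^ q = 1 ∧ a * b = b * a ∧ a ≠ 1 ∧
      ∀ i < q, b ≠ a ^ i := by
  rcases hq with rfl | rfl
  · refine ⟨⟨Equiv.swap 0 1 * Equiv.swap 2 3, Equiv.Perm.mem_alternatingGroup.2 (by decide)⟩, ⟨Equiv.swap 0 2 * Equiv.swap 1 3, Equiv.Perm.mem_alternatingGroup.2 (by decide)⟩, ?_⟩
    decide +kernel
  · refine ⟨⟨Equiv.swap 0 1 * Equiv.swap 1 2, Equiv.Perm.mem_alternatingGroup.2 (by decide)⟩, ⟨Equiv.swap 3 4 * Equiv.swap 4 5, Equiv.Perm.mem_alternatingGroup.2 (by decide)⟩, ?_⟩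
    decide +kernel

/-- A noncyclic elementary abelian group of order `q²` cannot act semiregularly: no `p`-group with `p ≠ q` can be a
non-trivial normal subgroup of a group with prime power orders and a quotient containing one. -/
theorem normal_pGroup_eq_bot (hpp : ∀ g : G, g ≠ 1 → IsPrimePow (orderOf g)) (R : Subgroup G) [R.Normal]
    {p q : ℕ} [Fact p.Prime] [Fact q.Prime] (hpq : q ≠ p) (hR : IsPGroup p R) {a b : G ⧸ R} (ha : a ^ q = 1)
    (hb : b ^ q = 1) (hab : a * b = b * a) (ha1 : a ≠ 1) (hba : ∀ i < q, b ≠ a ^ i) : R = ⊥ := by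
  by_contra hR1
  set π := QuotientGroup.mk' R
  -- a `q`-group mapping isomorphically onto a subgroup containing `a` and `b`
  obtain ⟨S⟩ : Nonempty (Sylow q G) := inferInstance
  have hinj : ∀ x ∈ (S : Subgroup G), π x = 1 → x = 1 := fun x hx h => by
    have h1 : x ∈ R := (QuotientGroup.eq_one_iff x).1 h
    obtain ⟨i, hi⟩ := hR ⟨x, h1⟩
    obtain ⟨j, hj⟩ := S.2 ⟨x, hx⟩
    exact orderOf_eq_one_iff.1 (Nat.eq_one_of_dvd_coprimes
      (((Nat.coprime_primes (Fact.out : p.Prime) (Fact.out : q.Prime)).2 hpq.symm).pow i j)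
      (orderOf_dvd_of_pow_eq_one (congrArg Subtype.val hi)) (orderOf_dvd_of_pow_eq_one (congrArg Subtype.val hj)))
  set E : Subgroup (G ⧸ R) := zpowers a ⊔ zpowers b with hE
  have hEc : ∀ x ∈ E, ∀ y ∈ E, x * y = y * x := by
    have hle : E ≤ centralizer (E : Set (G ⧸ R)) := by
      have h1 : ∀ g : G ⧸ R, g * a = a * g → g * b = b * g → g ∈ centralizer (E : Set (G ⧸ R)) := by
        intro g hga hgb
        have : E ≤ centralizer ({g} : Set (G ⧸ R)) := sup_le (zpowers_le.2 (mem_centralizer_singleton_iff.2 hga.symm))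
          (zpowers_le.2 (mem_centralizer_singleton_iff.2 hgb.symm))
        exact mem_centralizer_iff.2 fun y hy => mem_centralizer_singleton_iff.1 (this hy)
      exact sup_le (zpowers_le.2 (h1 a rfl hab)) (zpowers_le.2 (h1 b hab.symm rfl))
    exact fun x hx y hy => (mem_centralizer_iff.1 (hle hy) x hx)
  have hz : ∀ g : G ⧸ R, g ^ q = 1 → IsPGroup q (zpowers g) := fun g hg x => by
    obtain ⟨k, hk⟩ := mem_zpowers_iff.1 x.2
    refine ⟨1, Subtype.ext ?_⟩
    rw [pow_one, Subgroup.coe_pow, ← hk, ← zpow_natCast, ← zpow_mul, mul_comm, zpow_mul, zpow_natCast, hg, one_zpow]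
    rfl
  have hEq : IsPGroup q E := (hz a ha).to_sup_of_normal_left' (hz b hb) ((zpowers_le.2 (mem_centralizer_iff.2
    fun y hy => by
      obtain ⟨k, rfl⟩ := mem_zpowers_iff.1 hy
      exact ((show Commute a b from hab).zpow_left k).eq)).trans (centralizer_le_normalizer _))
  have hS' : ∃ S' : Sylow q G, E ≤ (S' : Subgroup G).map π := by
    obtain ⟨T, hT⟩ := hEq.exists_le_sylow
    have hrange : ∀ g : G ⧸ R, ∃ x : G, π x = g := QuotientGroup.mk'_surjective R
    obtain ⟨S₀, hS₀⟩ : ∃ S₀ : Sylow q (G ⧸ R), (S₀ : Subgroup (G ⧸ R)) = (S : Subgroup G).map π :=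
      ⟨S.mapSurjective (QuotientGroup.mk'_surjective R), rfl⟩
    obtain ⟨g, hg⟩ := MulAction.exists_smul_eq (G ⧸ R) S₀ T
    obtain ⟨x, rfl⟩ := hrange g
    refine ⟨x • S, hT.trans ?_⟩
    rw [← hg]
    intro y hy
    have hy' : y ∈ MulAut.conj (π x) • (S₀ : Subgroup (G ⧸ R)) := hy
    rw [Subgroup.mem_pointwise_smul_iff_inv_smul_mem, hS₀] at hy'
    obtain ⟨s, hs, hsy⟩ := hy'
    refine ⟨MulAut.conj x • s, Subgroup.smul_mem_pointwise_smul _ _ _ hs, ?_⟩
    show π (x * s * x⁻¹) = y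
    rw [map_mul, map_mul, map_inv, hsy]
    show π x * ((MulAut.conj (π x))⁻¹ y) * (π x)⁻¹ = y
    simp [mul_assoc]
  obtain ⟨S', hS'⟩ := hS'
  have hinj' : ∀ x ∈ (S' : Subgroup G), π x = 1 → x = 1 := fun x hx h => by
    have h1 : x ∈ R := (QuotientGroup.eq_one_iff x).1 h
    obtain ⟨i, hi⟩ := hR ⟨x, h1⟩
    obtain ⟨j, hj⟩ := S'.2 ⟨x, hx⟩
    exact orderOf_eq_one_iff.1 (Nat.eq_one_of_dvd_coprimes
      (((Nat.coprime_primes (Fact.out : p.Prime) (Fact.out : q.Prime)).2 hpq.symm).pow i j)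
      (orderOf_dvd_of_pow_eq_one (congrArg Subtype.val hi)) (orderOf_dvd_of_pow_eq_one (congrArg Subtype.val hj)))
  obtain ⟨A, hA, hAa⟩ := hS' (show a ∈ E from le_sup_left (a := zpowers a) (mem_zpowers a))
  obtain ⟨B, hB, hBb⟩ := hS' (show b ∈ E from le_sup_right (a := zpowers a) (mem_zpowers b))
  have hAq : A ^ q = 1 := hinj' _ (pow_mem hA q) (by rw [map_pow, hAa, ha])
  have hBq : B ^ q = 1 := hinj' _ (pow_mem hB q) (by rw [map_pow, hBb, hb])
  have hA1 : A ≠ 1 := fun h => ha1 (by rw [← hAa, h, map_one])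
  have hB1 : B ≠ 1 := fun h => hba 0 (Fact.out : q.Prime).pos (by rw [← hBb, h, map_one, pow_zero])
  have hfpf : ∀ x ∈ (S' : Subgroup G), x ≠ 1 → R ⊓ centralizer {x} = ⊥ := by
    intro x hx hx1
    rw [eq_bot_iff]
    rintro r ⟨hr, hrc⟩
    rw [mem_bot]
    by_contra hr1
    obtain ⟨i, hi⟩ := hR ⟨r, hr⟩
    obtain ⟨j, -, hj⟩ := (Nat.dvd_prime_pow (Fact.out : p.Prime)).1
      (orderOf_dvd_of_pow_eq_one (show r ^ p ^ i = 1 from congrArg Subtype.val hi))
    obtain ⟨k, hk⟩ := S'.2 ⟨x, hx⟩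
    obtain ⟨m, rfl⟩ : ∃ m, j = m + 1 := Nat.exists_eq_succ_of_ne_zero fun h0 =>
      hr1 (orderOf_eq_one_iff.1 (by rw [hj, h0, pow_zero]))
    exact Orders.eppo_commute hpp (Fact.out : q.Prime) (Fact.out : p.Prime) hpq hx1 (congrArg Subtype.val hk)
      (b := r ^ p ^ m) (by
        rw [orderOf_pow' _ (pow_ne_zero _ (Fact.out : p.Prime).ne_zero), hj,
          Nat.gcd_eq_right (pow_dvd_pow p m.le_succ), pow_succ,
          Nat.mul_div_cancel_left _ (pow_pos (Fact.out : p.Prime).pos m)])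
      ((show Commute x r from (mem_centralizer_singleton_iff.1 hrc).symm).pow_right _)
  have hzc : zpowers A = zpowers B :=
    Core.FPF.subgroup_order_prime_unique (K := R) (Core.le_normalizer_of_normal (S' : Subgroup G) R) hfpf hR1
      le_rfl (Fact.out : q.Prime) S'.2 (zpowers_le.2 hA) (zpowers_le.2 hB)
      (by rw [Nat.card_zpowers, orderOf_eq_prime hAq hA1]) (by rw [Nat.card_zpowers, orderOf_eq_prime hBq hB1])
  obtain ⟨k, hk⟩ := mem_zpowers_iff.1 (hzc ▸ mem_zpowers B : B ∈ zpowers A)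
  rw [← zpow_mod_orderOf, orderOf_eq_prime hAq hA1] at hk
  have h0 : (0 : ℤ) ≤ k % (q : ℕ) := Int.emod_nonneg _ (by exact_mod_cast (Fact.out : q.Prime).ne_zero)
  have hlt : k % (q : ℕ) < q := Int.emod_lt_of_pos _ (by exact_mod_cast (Fact.out : q.Prime).pos)
  refine hba (k % (q : ℕ)).toNat (by omega) ?_
  rw [← hBb, ← hk, map_zpow, hAa, ← zpow_natCast, Int.toNat_of_nonneg h0]

theorem exists_klein_five : ∃ a b : alternatingGroup (Fin 5), a ^ 2 = 1 ∧ b ^ 2 = 1 ∧ a * b = b * a ∧ a ≠ 1 ∧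
    ∀ i < 2, b ≠ a ^ i := by
  refine ⟨⟨Equiv.swap 0 1 * Equiv.swap 2 3, Equiv.Perm.mem_alternatingGroup.2 (by decide)⟩, ⟨Equiv.swap 0 2 * Equiv.swap 1 3, Equiv.Perm.mem_alternatingGroup.2 (by decide)⟩, ?_⟩
  decide +kernel

/-- The commutators used in the proof that the radical is abelian. -/
theorem exists_three_pairs : ∃ y₁ z₁ y₂ z₂ : alternatingGroup (Fin 5),
    (y₁ ^ 3 = 1 ∧ y₁ ≠ 1) ∧ (z₁ ^ 3 = 1 ∧ z₁ ≠ 1) ∧ ((y₁ * z₁) ^ 3 = 1 ∧ y₁ * z₁ ≠ 1) ∧
    (y₂ ^ 3 = 1 ∧ y₂ ≠ 1) ∧ (z₂ ^ 3 = 1 ∧ z₂ ≠ 1) ∧ ((y₂ * z₂) ^ 3 = 1 ∧ y₂ * z₂ ≠ 1) ∧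
    ((z₁ * y₁ * z₁⁻¹ * y₁⁻¹) * (z₂ * y₂ * z₂⁻¹ * y₂⁻¹)) ^ 3 = 1 ∧
    (z₁ * y₁ * z₁⁻¹ * y₁⁻¹) * (z₂ * y₂ * z₂⁻¹ * y₂⁻¹) ≠ 1 := by
  refine ⟨⟨Equiv.swap 0 1 * Equiv.swap 1 2, Equiv.Perm.mem_alternatingGroup.2 (by decide)⟩, ⟨Equiv.swap 0 2 * Equiv.swap 2 3, Equiv.Perm.mem_alternatingGroup.2 (by decide)⟩,
    ⟨Equiv.swap 0 1 * Equiv.swap 1 2, Equiv.Perm.mem_alternatingGroup.2 (by decide)⟩, ⟨Equiv.swap 0 2 * Equiv.swap 2 4, Equiv.Perm.mem_alternatingGroup.2 (by decide)⟩, ?_⟩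
  decide +kernel

theorem alt_five_orders : ∀ g : alternatingGroup (Fin 5), g ^ 2 = 1 ∨ g ^ 3 = 1 ∨ g ^ 5 = 1 := AltFive.orders

/-- The radical over `A₅` is elementary abelian. -/
theorem elementary_of_alt_five (hord : ∀ g : G, orderOf g ≤ 5) (hpp : ∀ g : G, g ≠ 1 → IsPrimePow (orderOf g))
    (R : Subgroup G) [R.Normal] (hR : IsPGroup 2 R) (e : G ⧸ R ≃* alternatingGroup (Fin 5)) :
    Cfsg.IsElementaryAbelian 2 R := by
  haveI : Fact (Nat.Prime 2) := ⟨Nat.prime_two⟩
  haveI : Fact (Nat.Prime 3) := ⟨Nat.prime_three⟩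
  set ψ : G →* alternatingGroup (Fin 5) := e.toMonoidHom.comp (QuotientGroup.mk' R) with hψdef
  have hψ : Function.Surjective ψ := e.surjective.comp (QuotientGroup.mk'_surjective R)
  have hker : ∀ g : G, ψ g = 1 ↔ g ∈ R := fun g => by
    rw [hψdef, MonoidHom.comp_apply, MulEquiv.coe_toMonoidHom, MulEquiv.map_eq_one_iff]
    exact QuotientGroup.eq_one_iff g
  -- elements over elements of order three have order three
  have hlift : ∀ g : G, ψ g ^ 3 = 1 → ψ g ≠ 1 → orderOf g = 3 := by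
    intro g h3 h1
    obtain ⟨j, hj⟩ : 3 ∣ orderOf g := orderOf_eq_prime h3 h1 ▸ orderOf_map_dvd ψ g
    have hle := hord g
    have hpos := orderOf_pos g
    rw [hj] at hle hpos ⊢
    omega
  have hfpf : ∀ g : G, orderOf g = 3 → ∀ r ∈ R, g * r = r * g → r = 1 := by
    intro g hg r hr hc
    by_contra hr1
    obtain ⟨i, hi⟩ := hR ⟨r, hr⟩
    exact Orders.eppo_commute hpp Nat.prime_two Nat.prime_three (by norm_num) hr1 (congrArg Subtype.val hi) hg hc.symm
  -- relations of an element of order three acting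
  have hnorm : ∀ g : G, orderOf g = 3 → ∀ r ∈ R,
      r * (g * r * g⁻¹) * (g * (g * r * g⁻¹) * g⁻¹) = 1 ∧ r * (g * r * g⁻¹) = (g * r * g⁻¹) * r := by
    intro g hg r hr
    have h3 : g * g * g = 1 := by rw [← pow_two, ← pow_succ, show 2 + 1 = orderOf g from hg.symm, pow_orderOf_eq_one]
    have hf3 : ∀ x : R, MulAut.conjNormal g (MulAut.conjNormal g (MulAut.conjNormal g x)) = x := fun x => by
      refine Subtype.ext ?_
      simp only [MulAut.conjNormal_apply]
      calc g * (g * (g * (x : G) * g⁻¹) * g⁻¹) * g⁻¹ = g * g * g * (x : G) * (g * g * g)⁻¹ := by group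
        _ = (x : G) := by rw [h3, one_mul, inv_one, mul_one]
    have hfix : ∀ x : R, MulAut.conjNormal g x = x → x = 1 := fun x hx => by
      have := congrArg Subtype.val hx
      rw [MulAut.conjNormal_apply] at this
      exact Subtype.ext (hfpf g hg _ x.2 (mul_inv_eq_iff_eq_mul.1 this))
    refine ⟨?_, ?_⟩
    · have := congrArg Subtype.val (CIT.three_prod_eq_one (MulAut.conjNormal g) hf3 hfix ⟨r, hr⟩)
      simpa only [Subgroup.coe_mul, MulAut.conjNormal_apply, Subgroup.coe_one] using this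
    · have := congrArg Subtype.val
        (CIT.three_commute (MulAut.conjNormal g) hf3 hfix (a := (⟨r, hr⟩ : R)) (b := ⟨r, hr⟩) rfl)
      simpa only [Subgroup.coe_mul, MulAut.conjNormal_apply] using this.symm
  have hmemR : ∀ (g : G) {r : G}, r ∈ R → g * r * g⁻¹ ∈ R := fun g r hr => Subgroup.Normal.conj_mem inferInstance r hr g
  -- an element of the second centre is central
  have hab : ∀ a ∈ R, ∀ b ∈ R, a * b = b * a := by
    set Z := center R with hZdef
    by_contra hne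
    have hZtop : Z ≠ ⊤ := fun h => hne fun a ha b hb =>
      (congrArg Subtype.val (mem_center_iff.1 (h ▸ mem_top (⟨a, ha⟩ : R) : (⟨a, ha⟩ : R) ∈ Z) ⟨b, hb⟩)).symm
    haveI : Nontrivial (R ⧸ Z) := by
      rw [← not_subsingleton_iff_nontrivial]
      intro h
      exact hZtop (QuotientGroup.subsingleton_iff.1 h)
    obtain ⟨w, hw1, hwc⟩ : ∃ w : R ⧸ Z, w ≠ 1 ∧ ∀ x : R ⧸ Z, x * w = w * x := by
      haveI := (hR.to_quotient Z).center_nontrivial
      obtain ⟨w, hw⟩ := exists_ne (1 : center (R ⧸ Z))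
      exact ⟨w, fun h => hw (Subtype.ext h), fun x => mem_center_iff.1 w.2 x⟩
    obtain ⟨a, rfl⟩ := QuotientGroup.mk'_surjective Z w
    have haZ : a ∉ Z := fun h => hw1 ((QuotientGroup.eq_one_iff a).2 h)
    refine haZ (mem_center_iff.2 fun r => ?_)
    -- commutators with `a` are central
    have hcen : ∀ x ∈ R, ∀ s ∈ R, ((a : G) * x * (a : G)⁻¹ * x⁻¹) * s = s * ((a : G) * x * (a : G)⁻¹ * x⁻¹) := by
      intro x hx s hs
      have h : a * ⟨x, hx⟩ * a⁻¹ * (⟨x, hx⟩ : R)⁻¹ ∈ Z := (QuotientGroup.eq_one_iff _).1 (by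
        have := hwc (QuotientGroup.mk' Z ⟨x, hx⟩)
        simp only [QuotientGroup.mk'_apply] at this
        rw [QuotientGroup.mk_mul, QuotientGroup.mk_mul, QuotientGroup.mk_mul, QuotientGroup.mk_inv,
          QuotientGroup.mk_inv, ← this]
        group)
      exact (congrArg Subtype.val (mem_center_iff.1 h ⟨s, hs⟩)).symm
    set C : G → G := fun x => (a : G) * x * (a : G)⁻¹ * x⁻¹ with hC
    have hCcomm : ∀ x ∈ R, ∀ s ∈ R, C x * s = s * C x := hcen
    have hCmem : ∀ x ∈ R, C x ∈ R := fun x hx => mul_mem (mul_mem (mul_mem a.2 hx) (inv_mem a.2)) (inv_mem hx)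
    have hCmul : ∀ x ∈ R, ∀ s ∈ R, C (x * s) = C x * C s := by
      intro x hx s hs
      calc C (x * s) = ((a : G) * x * (a : G)⁻¹ * x⁻¹) * (x * C s * x⁻¹) := by simp only [hC]; group
        _ = C x * C s := by rw [show x * C s * x⁻¹ = C s by rw [← hCcomm s hs x hx, mul_inv_cancel_right]]
    have hkey : ∀ g : G, orderOf g = 3 → ∀ x ∈ R, C (g * x * g⁻¹) = g * (g * C x * g⁻¹) * g⁻¹ := by
      intro g hg x hx
      have hgx := hmemR g hx
      set a' := g * (a : G) * g⁻¹ with ha'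
      have ha'R : a' ∈ R := hmemR g a.2
      obtain ⟨-, hAA⟩ := hnorm g hg a a.2
      obtain ⟨-, hXX⟩ := hnorm g hg x hx
      obtain ⟨-, hPP⟩ := hnorm g hg _ (mul_mem a.2 hx)
      -- `(*)`: `[a, x'] = [a', x]`
      set D : G := a' * x * a'⁻¹ * x⁻¹ with hD
      have hDeq : D = C (g * x * g⁻¹) := by
        have e1 : (a : G) * x * (a' * (g * x * g⁻¹)) = a' * (g * x * g⁻¹) * ((a : G) * x) := by
          have : g * ((a : G) * x) * g⁻¹ = a' * (g * x * g⁻¹) := by rw [ha']; group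
          rw [← this]; exact hPP
        set x' := g * x * g⁻¹ with hx'
        have e2 : (a : G) * x * (a' * x') = (a : G) * a' * (D⁻¹ * (x * x')) := by
          have : x * a' = D⁻¹ * (a' * x) := by rw [hD]; group
          have hcm : D⁻¹ * a' = a' * D⁻¹ := by
            have hDc : ∀ s ∈ R, D * s = s * D := by
              intro s hs
              have h1 : D = g * C (g⁻¹ * x * g) * g⁻¹ := by simp only [hD, hC, ha']; group
              rw [h1]
              have h2 := hCcomm (g⁻¹ * x * g) (by simpa using hmemR g⁻¹ hx) (g⁻¹ * s * g) (by simpa using hmemR g⁻¹ hs)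
              calc g * C (g⁻¹ * x * g) * g⁻¹ * s = g * (C (g⁻¹ * x * g) * (g⁻¹ * s * g)) * g⁻¹ := by group
                _ = g * ((g⁻¹ * s * g) * C (g⁻¹ * x * g)) * g⁻¹ := by rw [h2]
                _ = s * (g * C (g⁻¹ * x * g) * g⁻¹) := by group
            rw [inv_mul_eq_iff_eq_mul, ← mul_assoc, hDc a' ha'R, mul_inv_cancel_right]
          calc (a : G) * x * (a' * x') = (a : G) * (x * a') * x' := by group
            _ = (a : G) * (D⁻¹ * a') * (x * x') := by rw [this]; group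
            _ = (a : G) * a' * (D⁻¹ * (x * x')) := by rw [hcm]; group
        have e3 : a' * x' * ((a : G) * x) = (a : G) * a' * ((C x')⁻¹ * (x * x')) := by
          have : x' * (a : G) = (C x')⁻¹ * ((a : G) * x') := by simp only [hC]; group
          have hcm : (C x')⁻¹ * (a : G) = (a : G) * (C x')⁻¹ := by
            rw [inv_mul_eq_iff_eq_mul, ← mul_assoc, hCcomm x' hgx a a.2, mul_inv_cancel_right]
          calc a' * x' * ((a : G) * x) = a' * (x' * (a : G)) * x := by group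
            _ = a' * ((C x')⁻¹ * (a : G)) * (x' * x) := by rw [this]; group
            _ = a' * ((a : G) * (C x')⁻¹) * (x' * x) := by rw [hcm]
            _ = (a' * (a : G)) * ((C x')⁻¹ * (x' * x)) := by group
            _ = (a : G) * a' * ((C x')⁻¹ * (x * x')) := by rw [hAA, hXX]
        have := mul_left_cancel (e2.symm.trans (e1.trans e3))
        exact inv_injective (mul_right_cancel this)
      -- apply it to the conjugate
      have hgen : g * C x * g⁻¹ = a' * (g * x * g⁻¹) * a'⁻¹ * (g * x * g⁻¹)⁻¹ := by simp only [hC, ha']; group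
      obtain ⟨h1, -⟩ := hnorm g hg x hx
      obtain ⟨h2, -⟩ := hnorm g hg _ (hCmem x hx)
      set x' := g * x * g⁻¹ with hx'
      set x'' := g * x' * g⁻¹ with hx''
      have hx''R : x'' ∈ R := hmemR g hgx
      -- `[a', x'] = [a, x'']`
      have h3 : g * C x * g⁻¹ = C x'' := by
        rw [hgen]
        have hPP' := (hnorm g hg _ (mul_mem a.2 hgx)).2
        have hXX' := (hnorm g hg x' hgx).2
        have e1 : (a : G) * x' * (a' * x'') = a' * x'' * ((a : G) * x') := by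
          have : g * ((a : G) * x') * g⁻¹ = a' * x'' := by rw [ha', hx'']; group
          rw [← this]; exact hPP'
        have hDc : ∀ s ∈ R, (a' * x' * a'⁻¹ * x'⁻¹) * s = s * (a' * x' * a'⁻¹ * x'⁻¹) := by
          intro s hs
          rw [show a' * x' * a'⁻¹ * x'⁻¹ = g * C x * g⁻¹ from hgen.symm]
          have h2 := hCcomm x hx (g⁻¹ * s * g) (by simpa using hmemR g⁻¹ hs)
          calc g * C x * g⁻¹ * s = g * (C x * (g⁻¹ * s * g)) * g⁻¹ := by group
            _ = g * ((g⁻¹ * s * g) * C x) * g⁻¹ := by rw [h2]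
            _ = s * (g * C x * g⁻¹) := by group
        set D' := a' * x' * a'⁻¹ * x'⁻¹ with hD'
        have e2 : (a : G) * x' * (a' * x'') = (a : G) * a' * (D'⁻¹ * (x' * x'')) := by
          have : x' * a' = D'⁻¹ * (a' * x') := by rw [hD']; group
          have hcm : D'⁻¹ * a' = a' * D'⁻¹ := by
            rw [inv_mul_eq_iff_eq_mul, ← mul_assoc, hDc a' ha'R, mul_inv_cancel_right]
          calc (a : G) * x' * (a' * x'') = (a : G) * (x' * a') * x'' := by group
            _ = (a : G) * (D'⁻¹ * a') * (x' * x'') := by rw [this]; group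
            _ = (a : G) * a' * (D'⁻¹ * (x' * x'')) := by rw [hcm]; group
        have e3 : a' * x'' * ((a : G) * x') = (a : G) * a' * ((C x'')⁻¹ * (x' * x'')) := by
          have : x'' * (a : G) = (C x'')⁻¹ * ((a : G) * x'') := by simp only [hC]; group
          have hcm : (C x'')⁻¹ * (a : G) = (a : G) * (C x'')⁻¹ := by
            rw [inv_mul_eq_iff_eq_mul, ← mul_assoc, hCcomm x'' hx''R a a.2, mul_inv_cancel_right]
          calc a' * x'' * ((a : G) * x') = a' * (x'' * (a : G)) * x' := by group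
            _ = a' * ((C x'')⁻¹ * (a : G)) * (x'' * x') := by rw [this]; group
            _ = a' * ((a : G) * (C x'')⁻¹) * (x'' * x') := by rw [hcm]
            _ = (a' * (a : G)) * ((C x'')⁻¹ * (x'' * x')) := by group
            _ = (a : G) * a' * ((C x'')⁻¹ * (x' * x'')) := by rw [hAA, hXX']
        exact inv_injective (mul_right_cancel (mul_left_cancel (e2.symm.trans (e1.trans e3))))
      -- `C x * C x' * C x'' = 1`
      have h4 : C x * C x' * C x'' = 1 := by
        rw [← hCmul x hx x' hgx, ← hCmul _ (mul_mem hx hgx) x'' hx''R, h1]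
        simp only [hC]; group
      rw [← h3] at h4
      have h5 : C x * (g * C x * g⁻¹) * C x' = 1 := by
        rw [mul_assoc, ← hCcomm x' hgx _ (hmemR g (hCmem x hx)), ← mul_assoc]
        exact h4
      exact mul_left_cancel (h5.trans h2.symm)
    obtain ⟨y₁, z₁, y₂, z₂, hy₁, hz₁, hyz₁, hy₂, hz₂, hyz₂, hk3, hk1⟩ := exists_three_pairs
    obtain ⟨Y₁, rfl⟩ := hψ y₁
    obtain ⟨Z₁, rfl⟩ := hψ z₁
    obtain ⟨Y₂, rfl⟩ := hψ y₂
    obtain ⟨Z₂, rfl⟩ := hψ z₂
    have hfixk : ∀ y z : G, orderOf y = 3 → orderOf z = 3 → orderOf (y * z) = 3 → ∀ x ∈ R,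
        (z * y * z⁻¹ * y⁻¹) * C x = C x * (z * y * z⁻¹ * y⁻¹) := by
      intro y z hy hz hyz x hx
      have e1 := hkey y hy _ (hmemR z hx)
      rw [hkey z hz x hx, show y * (z * x * z⁻¹) * y⁻¹ = y * z * x * (y * z)⁻¹ by group, hkey _ hyz x hx] at e1
      have hc3 : ∀ w : G, orderOf w = 3 → w * w = w⁻¹ := fun w hw => eq_inv_of_mul_eq_one_left (by
        rw [← pow_two, ← pow_succ, show 2 + 1 = orderOf w from hw.symm, pow_orderOf_eq_one])
      have hy' : y * y = y⁻¹ := hc3 y hy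
      have hz' : z * z = z⁻¹ := hc3 z hz
      have hyz' : (y * z) * (y * z) = (y * z)⁻¹ := hc3 _ hyz
      have e2 : ((y * z) * (y * z)) * C x * ((y * z) * (y * z))⁻¹ =
          (y * y) * ((z * z) * C x * (z * z)⁻¹) * (y * y)⁻¹ := by
        refine Eq.trans ?_ (e1.trans ?_) <;> group
      rw [hy', hz', hyz'] at e2
      simp only [mul_inv_rev, inv_inv] at e2
      calc z * y * z⁻¹ * y⁻¹ * C x = z * y * (z⁻¹ * y⁻¹ * C x * (y * z)) * z⁻¹ * y⁻¹ := by group
        _ = z * y * (y⁻¹ * (z⁻¹ * C x * z) * y) * z⁻¹ * y⁻¹ := by rw [e2]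
        _ = C x * (z * y * z⁻¹ * y⁻¹) := by group
    have hfix : ∀ x ∈ R, C x = 1 := by
      intro x hx
      refine hfpf ((Z₁ * Y₁ * Z₁⁻¹ * Y₁⁻¹) * (Z₂ * Y₂ * Z₂⁻¹ * Y₂⁻¹)) (hlift _ (by simpa using hk3)
        (by simpa using hk1)) _ (hCmem x hx) ?_
      exact Commute.mul_left
        (hfixk Y₁ Z₁ (hlift _ hy₁.1 hy₁.2) (hlift _ hz₁.1 hz₁.2)
          (hlift _ (by simpa using hyz₁.1) (by simpa using hyz₁.2)) x hx : Commute _ _)
        (hfixk Y₂ Z₂ (hlift _ hy₂.1 hy₂.2) (hlift _ hz₂.1 hz₂.2)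
          (hlift _ (by simpa using hyz₂.1) (by simpa using hyz₂.2)) x hx : Commute _ _)
    have h := hfix r r.2
    refine Subtype.ext ?_
    show (r : G) * (a : G) = (a : G) * r
    rw [hC] at h
    exact (mul_inv_eq_iff_eq_mul.1 (mul_inv_eq_one.1 h)).symm
  refine ⟨⟨⟨fun a b => Subtype.ext (hab _ a.2 _ b.2)⟩⟩, fun s hs => ?_⟩
  -- every lift of an involution inverts the squares
  have hinv : ∀ t : G, ψ t ^ 2 = 1 → ψ t ≠ 1 → t * s ^ 2 * t⁻¹ = (s ^ 2)⁻¹ := by
    intro t ht2 ht1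
    have h4 : ∀ g : G, ψ g ^ 2 = 1 → ψ g ≠ 1 → g ^ 4 = 1 := by
      intro g hg2 hg1
      obtain ⟨j, hj⟩ : 2 ∣ orderOf g := orderOf_eq_prime hg2 hg1 ▸ orderOf_map_dvd ψ g
      refine orderOf_dvd_iff_pow_eq_one.1 ?_
      have := hord g
      have hpos := orderOf_pos g
      rw [hj] at this hpos ⊢
      have : j ∣ 2 := by
        have : j = 1 ∨ j = 2 := by omega
        rcases this with rfl | rfl <;> norm_num
      exact Nat.mul_dvd_mul_left 2 this
    have hψs : ψ s = 1 := (hker s).2 hs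
    have h1 := h4 t ht2 ht1
    have h2 := h4 (t * s) (by rw [map_mul, hψs, mul_one]; exact ht2) (by rw [map_mul, hψs, mul_one]; exact ht1)
    set s' := t * s * t⁻¹ with hs'
    have hs'R : s' ∈ R := hmemR t hs
    have hT : t * t ∈ R := (hker _).1 (by rw [map_mul, ← pow_two, ht2])
    have e : (t * s) * (t * s) = s' * (t * t) * s := by rw [hs']; group
    have hp4 : ∀ g : G, g ^ 4 = (g * g) * (g * g) := fun g => by simp [pow_succ, mul_assoc]
    rw [hp4] at h1 h2
    rw [e] at h2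
    have e' : (s' * (t * t) * s) * (s' * (t * t) * s) = (s' * s') * ((t * t) * (t * t)) * (s * s) := by
      calc (s' * (t * t) * s) * (s' * (t * t) * s) = (s' * (t * t)) * (s * s') * (t * t) * s := by group
        _ = (s' * (t * t)) * (s' * s) * (t * t) * s := by rw [hab s hs s' hs'R]
        _ = s' * ((t * t) * s') * (s * (t * t)) * s := by group
        _ = s' * (s' * (t * t)) * ((t * t) * s) * s := by rw [hab _ hT s' hs'R, hab s hs _ hT]
        _ = (s' * s') * ((t * t) * (t * t)) * (s * s) := by group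
    rw [h2, h1, mul_one] at e'
    rw [pow_two, show t * (s * s) * t⁻¹ = s' * s' by rw [hs']; group]
    exact eq_inv_of_mul_eq_one_left e'.symm
  obtain ⟨a, b, ha, hb, ha1, hb1, h3, h1⟩ : ∃ a b : alternatingGroup (Fin 5),
      a ^ 2 = 1 ∧ b ^ 2 = 1 ∧ a ≠ 1 ∧ b ≠ 1 ∧ (a * b) ^ 3 = 1 ∧ a * b ≠ 1 :=
    ⟨⟨Equiv.swap 0 1 * Equiv.swap 2 3, Equiv.Perm.mem_alternatingGroup.2 (by decide)⟩,
      ⟨Equiv.swap 0 1 * Equiv.swap 2 4, Equiv.Perm.mem_alternatingGroup.2 (by decide)⟩, by decide +kernel⟩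
  obtain ⟨A, rfl⟩ := hψ a
  obtain ⟨B, rfl⟩ := hψ b
  refine hfpf (A * B) (hlift _ (by simpa using h3) (by simpa using h1)) _ (pow_mem hs 2) ?_
  calc A * B * s ^ 2 = A * (B * s ^ 2 * B⁻¹) * B := by group
    _ = (A * (s ^ 2) * A⁻¹)⁻¹ * (A * B) := by rw [hinv B hb hb1]; group
    _ = s ^ 2 * (A * B) := by rw [hinv A ha ha1, inv_inv]

theorem spectrum_five
    (hS : ∀ (T : Type u) [Group T] [Finite T] [IsSimpleGroup T], ¬ IsMulCommutative T →
      (∀ g : T, g ≠ 1 → IsPrimePow (orderOf g)) → SimpleEPPOList T)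
    (h : Set.range (orderOf : G → ℕ) = {k : ℕ | 1 ≤ k ∧ k ≤ 5}) :
    Nonempty (G ≃* alternatingGroup (Fin 6)) ∨
      ∃ (N : Subgroup G) (_ : N.Normal),
        Cfsg.IsElementaryAbelian 2 N ∧ Nonempty (G ⧸ N ≃* alternatingGroup (Fin 5)) := by
  have hord : ∀ g : G, orderOf g ≤ 5 := fun g => (h ▸ Set.mem_range_self g : orderOf g ∈ {k : ℕ | 1 ≤ k ∧ k ≤ 5}).2
  have hpp : ∀ g : G, g ≠ 1 → IsPrimePow (orderOf g) := fun g hg => by
    have h1 : orderOf g ≠ 1 := fun h => hg (orderOf_eq_one_iff.1 h)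
    have h0 := orderOf_pos g
    have h5 := hord g
    have : orderOf g = 2 ∨ orderOf g = 3 ∨ orderOf g = 4 ∨ orderOf g = 5 := by omega
    rcases this with e | e | e | e <;> rw [e]
    · exact Nat.prime_two.isPrimePow
    · exact Nat.prime_three.isPrimePow
    · exact ⟨2, 2, Nat.prime_two.prime, by norm_num, by norm_num⟩
    · exact (show Nat.Prime 5 by norm_num).isPrimePow
  have hns : ¬ Group.IsSolvable G := by
    intro hs
    have hd : ∀ k : ℕ, 1 ≤ k → k ≤ 5 → k ∣ Nat.card G := fun k h1 h2 => by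
      obtain ⟨g, hg⟩ : k ∈ Set.range (orderOf : G → ℕ) := by rw [h]; exact ⟨h1, h2⟩
      exact hg ▸ orderOf_dvd_natCard g
    rcases ThreePrimes.solvable_three_primes _ G rfl 2 3 5 Nat.prime_two Nat.prime_three (by norm_num)
      (by norm_num) (by norm_num) (by norm_num) (hd 2 (by norm_num) (by norm_num)) (hd 3 (by norm_num) (by norm_num))
      (hd 5 (by norm_num) le_rfl) with ⟨x, hx⟩ | ⟨x, hx⟩ | ⟨x, hx⟩ <;>
    · have := hord x
      omega
  set R := Components.solRadical G with hRdef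
  haveI hRn : R.Normal := by rw [hRdef]; exact Components.solRadical_normal
  haveI hRs : Group.IsSolvable R := by rw [hRdef]; exact Components.solRadical_isSolvable
  obtain ⟨⟨p, hp, hRp⟩, M, hMn, hMs, hMc, -⟩ :=
    Orders.eppo_structure hns hpp R hRs fun N hN hN' => Components.le_solRadical hN hN'
  haveI := Fact.mk hp
  have hpp' : ∀ z : G ⧸ R, z ≠ 1 → IsPrimePow (orderOf z) := fun z hz => by
    obtain ⟨g, rfl⟩ := QuotientGroup.mk'_surjective R z
    have hg : g ≠ 1 := fun h => hz (by rw [h, map_one])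
    obtain ⟨q, k, hq, -, he⟩ := hpp g hg
    obtain ⟨j, -, hj⟩ := (Nat.dvd_prime_pow hq.nat_prime).1 (he.symm ▸ orderOf_map_dvd (QuotientGroup.mk' R) g)
    exact ⟨q, j, hq, Nat.pos_of_ne_zero fun h0 => hz (orderOf_eq_one_iff.1 (by rw [hj, h0, pow_zero])), hj.symm⟩
  have hord' : ∀ z : G ⧸ R, orderOf z ≤ 5 := fun z => by
    obtain ⟨g, rfl⟩ := QuotientGroup.mk'_surjective R z
    exact (Nat.le_of_dvd (orderOf_pos g) (orderOf_map_dvd _ g)).trans (hord g)
  have hppM : ∀ z : M, z ≠ 1 → IsPrimePow (orderOf z) := fun z hz => by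
    rw [← Subgroup.orderOf_coe]; exact hpp' _ fun e => hz (Subtype.ext e)
  rcases sixty_or_alt_six (hS M hMc hppM) (fun z => by rw [← Subgroup.orderOf_coe]; exact hord' _) with h60 | h6
  · obtain ⟨e5⟩ := Sixty.iso_alt_five h60
    have hM1 : M = ⊤ := index_eq_one.1 (index_eq_one_sixty hpp' M h60)
    subst hM1
    let e : G ⧸ R ≃* alternatingGroup (Fin 5) := Subgroup.topEquiv.symm.trans e5
    refine Or.inr ⟨R, hRn, ?_, ⟨e⟩⟩
    by_cases hR1 : R = ⊥
    · exact elementary_of_alt_five hord hpp R (hR1 ▸ IsPGroup.of_bot) e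
    by_cases hp2 : p = 2
    · exact elementary_of_alt_five hord hpp R (hp2 ▸ hRp) e
    exfalso
    haveI : Fact (Nat.Prime 2) := ⟨Nat.prime_two⟩
    obtain ⟨a, b, ha, hb, hab, ha1, hba⟩ := exists_klein_five
    refine hR1 (normal_pGroup_eq_bot hpp R (q := 2) (Ne.symm hp2) hRp (a := e.symm a) (b := e.symm b) ?_ ?_ ?_ ?_ ?_)
    · rw [← map_pow, ha, map_one]
    · rw [← map_pow, hb, map_one]
    · rw [← map_mul, hab, map_mul]
    · exact fun h => ha1 (e.symm.injective (by rw [h, map_one]))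
    · exact fun i hi h => hba i hi (e.symm.injective (by rw [h, map_pow]))
  · obtain ⟨e6⟩ := h6
    have h360 : Nat.card M = 360 := (Nat.card_congr e6.toEquiv).trans card_alt_six
    have hM1 : M = ⊤ := index_eq_one.1 (index_eq_one_three_sixty hpp' hord' M h360)
    subst hM1
    let e : G ⧸ R ≃* alternatingGroup (Fin 6) := Subgroup.topEquiv.symm.trans e6
    have hR1 : R = ⊥ := by
      obtain ⟨q, hq, hqp⟩ : ∃ q, (q = 2 ∨ q = 3) ∧ q ≠ p := by
        by_cases hp2 : p = 2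
        · exact ⟨3, Or.inr rfl, by omega⟩
        · exact ⟨2, Or.inl rfl, Ne.symm hp2⟩
      haveI : Fact q.Prime := ⟨by rcases hq with rfl | rfl <;> norm_num⟩
      obtain ⟨a, b, ha, hb, hab, ha1, hba⟩ := exists_square_elementary q hq
      refine normal_pGroup_eq_bot hpp R hqp hRp (a := e.symm a) (b := e.symm b) ?_ ?_ ?_ ?_ ?_
      · rw [← map_pow, ha, map_one]
      · rw [← map_pow, hb, map_one]
      · rw [← map_mul, hab, map_mul]
      · exact fun h => ha1 (e.symm.injective (by rw [h, map_one]))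
      · exact fun i hi h => hba i hi (e.symm.injective (by rw [h, map_pow]))
    exact Or.inl ⟨(QuotientGroup.quotientBot.symm.trans (QuotientGroup.quotientMulEquivOfEq hR1.symm)).trans e⟩

end CfsgLib.Recog.SmallOrders

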